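import Cfsg.Agent.He5.IdGen
import Cfsg.Agent.He5.IdLow
import Cfsg.Agent.Spor.ModelM24
import Cfsg.Agent.S0365

/-! The presentation `PLS` in `M₂₄`. -/

set_option autoImplicit false
set_option maxRecDepth 100000

namespace Cfsg.Agent.He5.Id

open Cfsg.Agent.Comp.BN Cfsg.Agent.Spor.ModelM24

def wsM : List (List ℕ) := [[1, 3, 1, 3, 1, 3, 1, 3, 1, 2, 0, 3, 0, 2, 0, 2, 0, 2, 0, 3, 0, 3, 0, 2, 0, 2, 0, 2, 0, 3, 0, 2, 0, 2, 0, 3, 0, 3, 0, 3, 0, 2, 0, 2, 0, 2, 0, 3, 0, 2, 0, 2, 0, 2, 0], [3, 1, 3, 1, 3, 1, 2, 1, 2, 0, 2, 0, 3, 0, 2, 0, 3, 0, 2, 0, 2, 0, 2, 0, 2, 0, 3, 0, 3, 0, 3, 0, 2, 0, 2, 0, 2, 0, 3, 0, 2, 0, 3, 0, 3, 0, 2, 0, 2, 0, 2, 0, 3], [3, 1, 2, 1, 2, 1, 3, 1, 2, 1, 2, 0, 3, 0,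 3, 0, 3, 0, 3, 0, 3, 0, 2, 0, 2, 0, 3, 0, 2, 0, 3, 0, 2, 0, 2, 0, 2, 0, 2, 0, 2, 0, 3, 0, 3, 0, 3, 0, 3, 0, 2, 0, 3, 0, 3, 0], [3, 1, 3, 0, 2, 0, 2, 0, 2, 0, 3, 0, 3, 0, 3, 0, 3, 0, 2, 0, 2, 0, 2, 0, 3, 0, 3, 0, 3, 0, 2, 0, 2, 0, 2, 0, 3, 0, 2, 0, 2, 0, 3, 0, 2, 0, 3, 0], [2, 0, 3, 0, 2, 0, 3, 0, 3, 0, 2, 0, 2, 0, 2, 0, 3, 0, 2, 0, 2, 0, 3, 0, 2, 0, 2, 0, 2, 0, 3, 0, 2, 0, 3, 0, 2, 0, 2, 0, 2], [3, 1, 2, 0, 2, 0, 3, 0, 3, 0, 2, 0, 2, 0, 2, 0, 3, 0, 2, 0, 3, 0, 2, 0, 3, 0, 2, 0, 2, 0, 2, 0, 3, 0, 3, 0, 3, 0, 2, 0, 2, 0, 2, 0, 2, 0, 2, 0], [1, 3, 1, 3, 1, 3, 0, 3, 0, 2, 0, 3, 0, 3, 0, 2, 0, 2, 0, 2, 0, 3, 0, 2, 0, 2, 0, 2, 0, 3, 0, 3, 0, 2, 0, 3, 0, 3, 0, 2, 0, 2, 0, 3, 0, 3, 0, 3, 0,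 3, 0], [2, 0, 2, 0, 3, 0, 2, 0, 2, 0, 2, 0, 2, 0, 2, 0, 2, 0, 3, 0, 2, 0, 2, 0, 3, 0, 2, 0, 3, 0, 2, 0, 3, 0, 3, 0, 2, 0, 2, 0, 2, 0, 3, 0, 3], [0, 2, 0, 2, 0, 3, 0, 2, 0, 2, 0, 2, 0, 3, 0, 2, 0, 3, 0, 3, 0, 2, 0, 2, 0, 3, 0, 2, 0, 3, 0, 2, 0, 2, 0, 3, 0, 2, 0], [3, 1, 2, 1, 3, 1, 3, 1, 3, 0, 2, 0, 2, 0, 2, 0, 3, 0, 2, 0, 2, 0, 3, 0, 2, 0, 3, 0, 2, 0, 3, 0, 3, 0, 2, 0, 3, 0, 2, 0, 3, 0, 2, 0, 3, 0, 2, 0, 3, 0, 3, 0, 2], [3, 1, 3, 1, 3, 1, 2, 1, 2, 1, 2, 0, 3, 0, 3, 0, 3, 0, 2, 0, 3, 0, 3, 0, 2, 0, 2, 0, 3, 0, 2, 0, 3, 0, 2, 0, 3, 0, 3, 0, 2, 0, 3, 0, 3, 0, 3, 0, 3, 0, 2, 0, 3, 0, 3, 0], [0, 2, 0, 2, 0, 3, 0, 3, 0, 2, 0, 3, 0, 2, 0, 3, 0, 2, 0, 3, 0, 2, 0, 2, 0, 3, 0, 3, 0, 3, 0, 3, 0,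 2, 0], [3, 1, 2, 1, 3, 1, 2, 0, 3, 0, 2, 0, 3, 0, 2, 0, 3, 0, 3, 0, 3, 0, 3, 0, 2, 0, 3, 0, 2, 0, 2, 0, 2, 0, 2, 0, 3, 0, 2, 0, 3, 0, 2, 0, 3, 0, 2, 0, 3, 0, 2, 0], [2, 0, 2, 0, 2, 0, 2, 0, 2, 0, 3, 0, 3, 0, 2, 0, 2, 0, 3, 0, 2, 0, 3, 0, 3, 0, 2, 0, 2, 0, 2, 0, 2, 0, 3, 0, 3, 0, 2, 0, 2, 0, 3, 0, 3]]

theorem sat_M : Sat PLS (subT (Comp.lp ns) wsM) := by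
  have h1 : allL (fun r => Comp.eqW 32 5 ns (subst wsM r) []) (invRels PLS PLS.inv.length) = true := by
    decide +kernel
  have h2 : allL (fun r => Comp.eqW 32 5 ns (subst wsM r) []) PLS.rels = true := by decide +kernel
  exact sat_subT (by decide) (fun r hr => Comp.wp_eq_of_eqW ctx ((allL_eq _ _).1 h1 r hr))
    (fun r hr => Comp.wp_eq_of_eqW ctx ((allL_eq _ _).1 h2 r hr))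

theorem gen_M : gen (subT (Comp.lp ns) wsM) = Comp.gen ns G_ss0 := by
  rw [gen_subT_eq]
  exact le_antisymm (Comp.gen_le_of_slp ctx (tgt := wsM) (es := [([1, 3, 1, 3, 1, 3, 1, 3, 1, 2, 0, 3, 0, 2, 0, 2, 0, 2, 0, 3, 0, 3, 0, 2, 0, 2, 0, 2, 0, 3, 0, 2, 0, 2, 0, 3, 0, 3, 0, 3, 0, 2, 0, 2, 0, 2, 0, 3, 0, 2, 0, 2, 0, 2, 0], [1, 3, 1, 3, 1, 3, 1, 3, 1, 2, 0, 3, 0, 2, 0, 2, 0, 2, 0, 3, 0, 3, 0, 2, 0, 2, 0, 2, 0, 3, 0, 2, 0, 2, 0, 3, 0, 3, 0, 3, 0, 2, 0, 2, 0, 2, 0, 3, 0, 2, 0, 2, 0, 2, 0]), ([3, 1, 3, 1, 3, 1, 2, 1, 2, 0, 2, 0, 3, 0, 2, 0, 3, 0, 2, 0, 2, 0, 2, 0, 2, 0, 3, 0, 3, 0, 3, 0, 2, 0, 2, 0, 2, 0, 3, 0, 2, 0, 3, 0, 3, 0, 2, 0, 2, 0, 2, 0, 3], [5, 3, 5, 3, 5, 3, 4, 3, 4, 2, 4, 2, 5,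 2, 4, 2, 5, 2, 4, 2, 4, 2, 4, 2, 4, 2, 5, 2, 5, 2, 5, 2, 4, 2, 4, 2, 4, 2, 5, 2, 4, 2, 5, 2, 5, 2, 4, 2, 4, 2, 4, 2, 5]), ([3, 1, 2, 1, 2, 1, 3, 1, 2, 1, 2, 0, 3, 0, 3, 0, 3, 0, 3, 0, 3, 0, 2, 0, 2, 0, 3, 0, 2, 0, 3, 0, 2, 0, 2, 0, 2, 0, 2, 0, 2, 0, 3, 0, 3, 0, 3, 0, 3, 0, 2, 0, 3, 0, 3, 0], [7, 5, 6, 5, 6, 5, 7, 5, 6, 5, 6, 4, 7, 4, 7, 4, 7, 4, 7, 4, 7, 4, 6, 4, 6, 4, 7, 4, 6, 4, 7, 4, 6, 4, 6, 4, 6, 4, 6, 4, 6, 4, 7, 4, 7, 4, 7, 4, 7, 4, 6, 4, 7, 4, 7, 4]), ([3, 1, 3, 0, 2, 0, 2, 0, 2, 0, 3, 0, 3, 0, 3, 0, 3, 0, 2, 0, 2, 0, 2, 0, 3, 0, 3, 0, 3, 0, 2, 0, 2, 0, 2, 0, 3, 0, 2, 0, 2, 0, 3, 0, 2, 0, 3, 0], [9, 7, 9, 6, 8, 6, 8, 6, 8, 6, 9, 6, 9, 6, 9, 6, 9, 6, 8, 6, 8, 6, 8, 6, 9, 6, 9,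 6, 9, 6, 8, 6, 8, 6, 8, 6, 9, 6, 8, 6, 8, 6, 9, 6, 8, 6, 9, 6]), ([2, 0, 3, 0, 2, 0, 3, 0, 3, 0, 2, 0, 2, 0, 2, 0, 3, 0, 2, 0, 2, 0, 3, 0, 2, 0, 2, 0, 2, 0, 3, 0, 2, 0, 3, 0, 2, 0, 2, 0, 2], [10, 8, 11, 8, 10, 8, 11, 8, 11, 8, 10, 8, 10, 8, 10, 8, 11, 8, 10, 8, 10, 8, 11, 8, 10, 8, 10, 8, 10, 8, 11, 8, 10, 8, 11, 8, 10, 8, 10, 8, 10]), ([3, 1, 2, 0, 2, 0, 3, 0, 3, 0, 2, 0, 2, 0, 2, 0, 3, 0, 2, 0, 3, 0, 2, 0, 3, 0, 2, 0, 2, 0, 2, 0, 3, 0, 3, 0, 3, 0, 2, 0, 2, 0, 2, 0, 2, 0, 2, 0], [13, 11, 12, 10, 12, 10, 13, 10, 13, 10, 12, 10, 12, 10, 12, 10, 13, 10, 12, 10, 13, 10, 12, 10, 13, 10, 12, 10, 12, 10, 12, 10, 13, 10, 13, 10, 13, 10, 12, 10, 12, 10, 12, 10, 12, 10, 12, 10]), ([1, 3, 1, 3,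 1, 3, 0, 3, 0, 2, 0, 3, 0, 3, 0, 2, 0, 2, 0, 2, 0, 3, 0, 2, 0, 2, 0, 2, 0, 3, 0, 3, 0, 2, 0, 3, 0, 3, 0, 2, 0, 2, 0, 3, 0, 3, 0, 3, 0, 3, 0], [13, 15, 13, 15, 13, 15, 12, 15, 12, 14, 12, 15, 12, 15, 12, 14, 12, 14, 12, 14, 12, 15, 12, 14, 12, 14, 12, 14, 12, 15, 12, 15, 12, 14, 12, 15, 12, 15, 12, 14, 12, 14, 12, 15, 12, 15, 12, 15, 12, 15, 12]), ([2, 0, 2, 0, 3, 0, 2, 0, 2, 0, 2, 0, 2, 0, 2, 0, 2, 0, 3, 0, 2, 0, 2, 0, 3, 0, 2, 0, 3, 0, 2, 0, 3, 0, 3, 0, 2, 0, 2, 0, 2, 0, 3, 0, 3], [16, 14, 16, 14, 17, 14, 16, 14, 16, 14, 16, 14, 16, 14, 16, 14, 16, 14, 17, 14, 16, 14, 16, 14, 17, 14, 16, 14, 17, 14, 16, 14, 17, 14, 17, 14, 16, 14, 16, 14, 16, 14, 17, 14, 17]), ([0, 2, 0, 2, 0, 3, 0,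 2, 0, 2, 0, 2, 0, 3, 0, 2, 0, 3, 0, 3, 0, 2, 0, 2, 0, 3, 0, 2, 0, 3, 0, 2, 0, 2, 0, 3, 0, 2, 0], [16, 18, 16, 18, 16, 19, 16, 18, 16, 18, 16, 18, 16, 19, 16, 18, 16, 19, 16, 19, 16, 18, 16, 18, 16, 19, 16, 18, 16, 19, 16, 18, 16, 18, 16, 19, 16, 18, 16]), ([3, 1, 2, 1, 3, 1, 3, 1, 3, 0, 2, 0, 2, 0, 2, 0, 3, 0, 2, 0, 2, 0, 3, 0, 2, 0, 3, 0, 2, 0, 3, 0, 3, 0, 2, 0, 3, 0, 2, 0, 3, 0, 2, 0, 3, 0, 2, 0, 3, 0, 3, 0, 2], [21, 19, 20, 19, 21, 19, 21, 19, 21, 18, 20, 18, 20, 18, 20, 18, 21, 18, 20, 18, 20, 18, 21, 18, 20, 18, 21, 18, 20, 18, 21, 18, 21, 18, 20, 18, 21, 18, 20, 18, 21, 18, 20, 18, 21, 18, 20, 18, 21, 18, 21, 18, 20]), ([3, 1, 3, 1, 3, 1, 2, 1, 2, 1, 2, 0, 3, 0, 3, 0, 3, 0, 2,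 0, 3, 0, 3, 0, 2, 0, 2, 0, 3, 0, 2, 0, 3, 0, 2, 0, 3, 0, 3, 0, 2, 0, 3, 0, 3, 0, 3, 0, 3, 0, 2, 0, 3, 0, 3, 0], [23, 21, 23, 21, 23, 21, 22, 21, 22, 21, 22, 20, 23, 20, 23, 20, 23, 20, 22, 20, 23, 20, 23, 20, 22, 20, 22, 20, 23, 20, 22, 20, 23, 20, 22, 20, 23, 20, 23, 20, 22, 20, 23, 20, 23, 20, 23, 20, 23, 20, 22, 20, 23, 20, 23, 20]), ([0, 2, 0, 2, 0, 3, 0, 3, 0, 2, 0, 3, 0, 2, 0, 3, 0, 2, 0, 3, 0, 2, 0, 2, 0, 3, 0, 3, 0, 3, 0, 3, 0, 2, 0], [22, 24, 22, 24, 22, 25, 22, 25, 22, 24, 22, 25, 22, 24, 22, 25, 22, 24, 22, 25, 22, 24, 22, 24, 22, 25, 22, 25, 22, 25, 22, 25, 22, 24, 22]), ([3, 1, 2, 1, 3, 1, 2, 0, 3, 0, 2, 0, 3, 0, 2, 0, 3, 0, 3, 0, 3, 0, 3, 0, 2, 0, 3, 0, 2, 0, 2, 0, 2, 0,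 2, 0, 3, 0, 2, 0, 3, 0, 2, 0, 3, 0, 2, 0, 3, 0, 2, 0], [27, 25, 26, 25, 27, 25, 26, 24, 27, 24, 26, 24, 27, 24, 26, 24, 27, 24, 27, 24, 27, 24, 27, 24, 26, 24, 27, 24, 26, 24, 26, 24, 26, 24, 26, 24, 27, 24, 26, 24, 27, 24, 26, 24, 27, 24, 26, 24, 27, 24, 26, 24]), ([2, 0, 2, 0, 2, 0, 2, 0, 2, 0, 3, 0, 3, 0, 2, 0, 2, 0, 3, 0, 2, 0, 3, 0, 3, 0, 2, 0, 2, 0, 2, 0, 2, 0, 3, 0, 3, 0, 2, 0, 2, 0, 3, 0, 3], [28, 26, 28, 26, 28, 26, 28, 26, 28, 26, 29, 26, 29, 26, 28, 26, 28, 26, 29, 26, 28, 26, 29, 26, 29, 26, 28, 26, 28, 26, 28, 26, 28, 26, 29, 26, 29, 26, 28, 26, 28, 26, 29, 26, 29])]) (by decide +kernel))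
    (Comp.gen_le_of_slp ctx (cur := wsM) (es := [([0], [0, 24, 20, 22, 26, 8, 6, 26, 22, 20, 24, 0]), ([2], [4, 6, 24, 28, 24, 28, 22, 24, 28, 26, 22, 24, 10, 28, 24, 2])]) (by decide +kernel))

noncomputable def eM : Cfsg.M24 ≃* gen (subT (Comp.lp ns) wsM) :=
  equiv.trans (MulEquiv.subgroupCongr gen_M.symm)

theorem link_LS : Link PLS (selfT (subT (Comp.lp ns) wsM)) :=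
  link_of_card bLS (sat_selfT sat_M) (gen_selfT _) (by rw [gen_M, G_card])

end Cfsg.Agent.He5.Id
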