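import Cfsg.Agent.Comp.Basic
import Cfsg.Agent.Comp.BitMore
import Cfsg.Agent.S0445

/-! Matrices of size 5 over the field with two elements, coded by 25-bit numbers; the centraliser
of the transvection `E04`. -/

set_option autoImplicit false

namespace Cfsg.Agent.He5

open Cfsg.Agent.Comp

abbrev SL5 := Matrix.SpecialLinearGroup (Fin 5) (ZMod 2)

def tm (x y j j5 : ℕ) : ℕ :=
  Nat.mul (Nat.land (Nat.shiftRight x j) 1082401) (Nat.land (Nat.shiftRight y j5) 31)

def mu0 (x y : ℕ) : ℕ :=
  Nat.xor (Nat.xor (Nat.xor (Nat.xor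
    (Nat.mul (Nat.land x (nat_lit 1082401))
      (Nat.land y (nat_lit 31)))
    (Nat.mul (Nat.land (Nat.shiftRight x (nat_lit 1)) (nat_lit 1082401))
      (Nat.land (Nat.shiftRight y (nat_lit 5)) (nat_lit 31))))
    (Nat.mul (Nat.land (Nat.shiftRight x (nat_lit 2)) (nat_lit 1082401))
      (Nat.land (Nat.shiftRight y (nat_lit 10)) (nat_lit 31))))
    (Nat.mul (Nat.land (Nat.shiftRight x (nat_lit 3)) (nat_lit 1082401))
      (Nat.land (Nat.shiftRight y (nat_lit 15)) (nat_lit 31))))
    (Nat.mul (Nat.land (Nat.shiftRight x (nat_lit 4)) (nat_lit 1082401))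
      (Nat.land (Nat.shiftRight y (nat_lit 20)) (nat_lit 31)))

/-- product of codes -/
noncomputable def mu (x y : ℕ) : ℕ :=
  Nat.rec (motive := fun _ => ℕ) (nat_lit 0) (fun x _ => Nat.rec (motive := fun _ => ℕ) (nat_lit 0)
    (fun y _ => mu0 (Nat.succ x) (Nat.succ y)) y) x

theorem mu_zero_left (y : ℕ) : mu 0 y = 0 := rfl

theorem mu_zero_right (x : ℕ) : mu x 0 = 0 := by cases x <;> rfl

/-- the code of the identity -/
def o5 : ℕ := nat_lit 17043521

def dec (x : ℕ) : Matrix (Fin 5) (Fin 5) (ZMod 2) :=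
  Matrix.of fun i j => if x.testBit (5 * i + j) then 1 else 0

theorem spread_aux : ∀ b0 b1 b2 b3 b4 : Bool, ∀ r < 32,
    (b0.toNat * 2 ^ 0 ||| (b1.toNat * 2 ^ 5 ||| (b2.toNat * 2 ^ 10 ||| (b3.toNat * 2 ^ 15 |||
      b4.toNat * 2 ^ 20)))) * r < 2 ^ 25 ∧ ∀ i < 5, ∀ k < 5,
    ((b0.toNat * 2 ^ 0 ||| (b1.toNat * 2 ^ 5 ||| (b2.toNat * 2 ^ 10 ||| (b3.toNat * 2 ^ 15 |||
      b4.toNat * 2 ^ 20)))) * r).testBit (5 * i + k) =
      ([b0, b1, b2, b3, b4].getD i false && r.testBit k) := by decide +kernel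

theorem tm_spec (x y j : ℕ) : tm x y j (5 * j) < 2 ^ 25 ∧ ∀ i < 5, ∀ k < 5,
    (tm x y j (5 * j)).testBit (5 * i + k) = (x.testBit (5 * i + j) && y.testBit (5 * j + k)) := by
  have e : tm x y j (5 * j) = ((x >>> j) &&& (2 ^ 0 ||| (2 ^ 5 ||| (2 ^ 10 ||| (2 ^ 15 ||| 2 ^ 20))))) *
      ((y >>> (5 * j)) &&& (2 ^ 5 - 1)) := rfl
  rw [e]
  simp only [Nat.and_or_distrib_left, Nat.and_two_pow, Nat.and_two_pow_sub_one_eq_mod]
  obtain ⟨h1, h2⟩ := spread_aux ((x >>> j).testBit 0) ((x >>> j).testBit 5) ((x >>> j).testBit 10)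
    ((x >>> j).testBit 15) ((x >>> j).testBit 20) ((y >>> (5 * j)) % 2 ^ 5) (Nat.mod_lt _ (by norm_num))
  refine ⟨h1, fun i hi k hk => ?_⟩
  rw [h2 i hi k hk, Nat.testBit_mod_two_pow, Nat.testBit_shiftRight]
  simp only [Nat.testBit_shiftRight]
  interval_cases i <;> simp [hk, add_comm]

theorem mu_eq (x y : ℕ) : mu x y = tm x y 0 (5 * 0) ^^^ tm x y 1 (5 * 1) ^^^ tm x y 2 (5 * 2) ^^^
    tm x y 3 (5 * 3) ^^^ tm x y 4 (5 * 4) := by
  rcases x with _ | x
  · simp [mu_zero_left, tm]
  rcases y with _ | y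
  · simp [mu_zero_right, tm]
  rfl

theorem mu_lt (x y : ℕ) : mu x y < 2 ^ 25 := by
  rw [mu_eq]
  exact Nat.xor_lt_two_pow (Nat.xor_lt_two_pow (Nat.xor_lt_two_pow (Nat.xor_lt_two_pow
    (tm_spec x y 0).1 (tm_spec x y 1).1) (tm_spec x y 2).1) (tm_spec x y 3).1) (tm_spec x y 4).1

theorem ite_xor (a b : Bool) : (if (a ^^ b) = true then (1 : ZMod 2) else 0) =
    (if a = true then 1 else 0) + if b = true then 1 else 0 := by
  cases a <;> cases b <;> decide

theorem ite_and (a b : Bool) : (if (a && b) = true then (1 : ZMod 2) else 0) =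
    (if a = true then 1 else 0) * if b = true then 1 else 0 := by
  cases a <;> cases b <;> decide

theorem dec_mu (x y : ℕ) : dec (mu x y) = dec x * dec y := by
  ext i k
  rw [Matrix.mul_apply, Fin.sum_univ_five]
  simp only [dec, Matrix.of_apply, mu_eq, Nat.testBit_xor, ite_xor,
    (tm_spec x y _).2 i i.2 k k.2, ite_and]
  rfl

theorem dec_o5 : dec o5 = 1 := by decide +kernel

theorem dec_inj {x y : ℕ} (hx : x < 2 ^ 25) (hy : y < 2 ^ 25) (h : dec x = dec y) : x = y := by
  refine Nat.eq_of_testBit_eq fun n => ?_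
  by_cases hn : n < 25
  · have := congrFun (congrFun h ⟨n / 5, by omega⟩) ⟨n % 5, by omega⟩
    simp only [dec, Matrix.of_apply, Nat.div_add_mod] at this
    revert this
    cases x.testBit n <;> cases y.testBit n <;> decide
  · rw [Nat.testBit_lt_two_pow (hx.trans_le (Nat.pow_le_pow_right two_pos (by omega))),
      Nat.testBit_lt_two_pow (hy.trans_le (Nat.pow_le_pow_right two_pos (by omega)))]

theorem dec_surj (M : Matrix (Fin 5) (Fin 5) (ZMod 2)) : ∃ x < 2 ^ 25, dec x = M := by
  let f : Fin (2 ^ 25) → Matrix (Fin 5) (Fin 5) (ZMod 2) := fun x => dec x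
  have h1 : Function.Injective f := fun x y h => Fin.ext (dec_inj x.2 y.2 h)
  have h2 : Function.Bijective f := (Fintype.bijective_iff_injective_and_card f).2 ⟨h1, by
    rw [Fintype.card_fin, ← Nat.card_eq_fintype_card]
    change _ = Nat.card (Fin 5 → Fin 5 → ZMod 2)
    simp⟩
  obtain ⟨x, hx⟩ := h2.2 M
  exact ⟨x, x.2, hx⟩

theorem det_of_mu {x y : ℕ} (h : mu x y = o5) : (dec x).det = 1 := by
  have := congrArg (fun x => (dec x).det) h
  simp only [dec_mu, dec_o5, Matrix.det_mul, Matrix.det_one] at this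
  revert this
  generalize (dec x).det = a
  generalize (dec y).det = b
  revert a b; decide

/-- the element with code `x` and inverse `y` -/
def slOf (x y : ℕ) (h : mu x y = o5) : SL5 := ⟨dec x, det_of_mu h⟩

/-- the code of `E04` -/
def zc : ℕ := nat_lit 17043537

/-- the transvection `E04` -/
def zs : SL5 := slOf zc zc (by decide +kernel)

/-- its centraliser -/
abbrev Hs : Subgroup SL5 := Subgroup.centralizer {zs}

/-- valid codes -/
def V (x : ℕ) : Prop := x < 2 ^ 25 ∧ ∃ M : Hs, ((M : SL5) : Matrix _ _ _) = dec x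

open Classical in
/-- the element with a valid code -/
noncomputable def el (x : ℕ) : Hs := if h : V x then h.2.choose else 1

theorem coe_el {x : ℕ} (h : V x) : ((el x : SL5) : Matrix _ _ _) = dec x := by
  rw [el, dif_pos h]; exact h.2.choose_spec

theorem V.mu {x y : ℕ} (hx : V x) (hy : V y) : V (mu x y) :=
  ⟨mu_lt x y, el x * el y, by rw [dec_mu, ← coe_el hx, ← coe_el hy]; rfl⟩

theorem el_mu {x y : ℕ} (hx : V x) (hy : V y) : el (mu x y) = el x * el y := by
  ext1; ext1
  rw [coe_el (hx.mu hy), dec_mu, ← coe_el hx, ← coe_el hy]; rfl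

theorem V_o5 : V o5 := ⟨by decide, 1, by rw [dec_o5]; rfl⟩

theorem el_o5 : el o5 = 1 := by
  ext1; ext1
  rw [coe_el V_o5, dec_o5]; rfl

theorem el_inj {x y : ℕ} (hx : V x) (hy : V y) (h : el x = el y) : x = y :=
  dec_inj hx.1 hy.1 (by rw [← coe_el hx, ← coe_el hy, h])

theorem el_surj (g : Hs) : ∃ x, V x ∧ el x = g := by
  obtain ⟨x, h1, h2⟩ := dec_surj ((g : SL5) : Matrix _ _ _)
  have h : V x := ⟨h1, g, h2.symm⟩
  exact ⟨x, h, by ext1; ext1; rw [coe_el h, h2]⟩

theorem V_of {x y : ℕ} (h0 : x < 2 ^ 25) (h : mu x y = o5) (hz : mu x zc = mu zc x) : V x := by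
  refine ⟨h0, ⟨slOf x y h, ?_⟩, rfl⟩
  rw [Subgroup.mem_centralizer_singleton_iff]
  ext1
  have := congrArg dec hz
  rw [dec_mu, dec_mu] at this
  exact congrFun₂ this _ _

/-- the 167-th power, which is the inverse -/
noncomputable def iv (x : ℕ) : ℕ :=
  force x fun x => force (mu x x) fun x2 => force (mu x2 x2) fun x4 => force (mu x4 x) fun x5 =>
    force (mu x5 x5) fun x10 => force (mu x10 x10) fun x20 => force (mu x20 x20) fun x40 =>
    force (mu x40 x40) fun x80 => mu (mu (mu x80 x80) x5) x2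

/-- decidable validity -/
noncomputable def vB (x : ℕ) : Bool :=
  and' (Nat.blt x (nat_lit 33554432)) (and' (Nat.beq (mu x (iv x)) o5) (Nat.beq (mu x zc) (mu zc x)))

theorem V_of_vB {x : ℕ} (h : vB x = true) : V x := by
  simp only [vB, and'_eq_true, blt_iff, beq_iff] at h
  exact V_of h.1 h.2.1 h.2.2

theorem V.iv {x : ℕ} (h : V x) : V (iv x) := by
  simp only [He5.iv, force_eq]
  have h2 := h.mu h
  have h5 := (h2.mu h2).mu h
  have h10 := h5.mu h5
  have h20 := h10.mu h10
  have h40 := h20.mu h20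
  have h80 := h40.mu h40
  exact ((h80.mu h80).mu h5).mu h2

theorem conj_s (s : SL5) (hs : (s : Matrix (Fin 5) (Fin 5) (ZMod 2)) = Matrix.transvection 0 1 1) :
    zs ∈ conjugatesOf s := by
  have h : mu 2363905 2363905 = o5 := by decide +kernel
  refine isConj_iff.2 ⟨slOf 2363905 2363905 h, ?_⟩
  rw [mul_inv_eq_iff_eq_mul]
  ext1
  have e : Matrix.transvection (0 : Fin 5) 1 (1 : ZMod 2) = dec 17043523 := by decide +kernel
  have e2 : mu 2363905 17043523 = mu zc 2363905 := by decide +kernel
  have e3 := congrArg dec e2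
  rw [dec_mu, dec_mu, ← e, ← hs] at e3
  exact congrFun₂ e3 _ _

theorem card_Hs : Nat.card Hs = 21504 := by
  have h : mu 17043523 17043523 = o5 := by decide +kernel
  have e : dec 17043523 = Matrix.transvection (0 : Fin 5) 1 (1 : ZMod 2) := by decide +kernel
  obtain ⟨f⟩ := BN.centralizer_equiv (conj_s (slOf _ _ h) e)
  rw [← Nat.card_congr f.toEquiv]
  exact Cfsg.Agent.S0445.result _ e

/-! ### Enumeration -/

noncomputable def baseTab : ℕ := nat_lit 0x8398a0c1cc4060e61830730818394c0c1ca4060e51830728418390c0c1c85060e4103072041838cc0c1c65060e31030718418388c0c1c44060e21830710418384a0c1c24060e1183070881831ca0c18e4060c71830638818314e0c18a4060c51030628418310e0c1885060c4183062041830ce0c1864060c31030618418308e0c1845060c21830610418304a0c1824060c1183060881829cc0c14e4060a71830538418298e0c14c4060a61030530418290e0c1486060a4183052081828ce0c1464060a31030518418288c0c1444060a21830510418284e0c1426060a1183050881821cc0c10e5060871030438418218e0c10c5060861830430418214e0c10a606085183042881820cc0c10650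60831030418418208e0c1045060821830410418204e0c102606081183040881819cc0c0ce5060671030338418198e0c0cc4060661030330418194e0c0ca4060651030328418190c0c0c85060641030320418188e0c0c46060622830311018184e0c0c2606061283030901811cc0c08e4060471830238418118e0c08c5060461830230418114c0c08a4060451830228418110e0c088506044183022041810ce0c0866060432830219018104e0c082606041283020901809ca0c04e4060271830138818098a0c04c4060261830130818094e0c04a6060251830128818090e0c048606024183012081808ce0c0466060232830119018088e0c044606022283011101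

noncomputable def idxTab : ℕ := nat_lit 0xa7a6a5a4000000a300a2a100a000009f9e00009d9c00009b9a000099980000970096950094000000939291900000000000000000000000008f8e8d8c000000000000000000008b00008a00898800870086008500840083000082008180007f007e007d007c0000007b7a7978000000000000000000000077007675007400730000720071700000000000000000006f6e00006d6c00006b00006a00696800006700666500640063620000616000000000000000000000005f5e00005d5c005b005a00590058005756000055540000000000000000000000535200005150004f004e004d004c004b4a0000494800000000000000000000004746000045440043000042004140003f00003e003d3c00003b3a00003938000000000000000000373635340000000033323130000000000000000000000000002f002e2d002c002b002a0029002800002700262500240023002200210020001f1e1d1c0000000000000000000000001b1a1918000000000000000000000000000017161514000000001312111000000f0e00000d0c00000b0a000009080000070605040000000003020100000000000000000000000000000000000000000000000000000000000000000000000000000000000000000000000000000000000000000000000000000000000000000000000000000000000000000000000000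

/-- enumeration of the valid codes -/
noncomputable def enH (k : ℕ) : ℕ :=
  Nat.lor (Nat.lor (Nat.lor (dig (nat_lit 25) (nat_lit 33554431) baseTab (Nat.shiftRight k (nat_lit 7)))
    (Nat.shiftLeft (Nat.land k (nat_lit 15)) (nat_lit 1))) (Nat.shiftLeft (Nat.land k (nat_lit 16)) (nat_lit 5)))
    (Nat.lor (Nat.shiftLeft (Nat.land k (nat_lit 32)) (nat_lit 9)) (Nat.shiftLeft (Nat.land k (nat_lit 64)) (nat_lit 13)))

noncomputable def idxH (x : ℕ) : ℕ :=
  Nat.lor (Nat.lor (Nat.lor (Nat.shiftLeft (dig (nat_lit 8) (nat_lit 255) idxTab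
      (Nat.lor (Nat.lor (Nat.land (Nat.shiftRight x (nat_lit 6)) (nat_lit 7)) (Nat.land (Nat.shiftRight x (nat_lit 8)) (nat_lit 56)))
        (Nat.land (Nat.shiftRight x (nat_lit 10)) (nat_lit 448)))) (nat_lit 7))
    (Nat.land (Nat.shiftRight x (nat_lit 1)) (nat_lit 15))) (Nat.land (Nat.shiftRight x (nat_lit 5)) (nat_lit 16)))
    (Nat.lor (Nat.land (Nat.shiftRight x (nat_lit 9)) (nat_lit 32)) (Nat.land (Nat.shiftRight x (nat_lit 13)) (nat_lit 64)))

theorem enH_chk : allB 21504 (fun k => force (enH k) fun x => and' (Nat.beq (idxH x) k) (vB x)) = true := by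
  decide +kernel

theorem enH_spec {k : ℕ} (hk : k < 21504) : idxH (enH k) = k ∧ V (enH k) := by
  have := (allB_iff _ _).1 enH_chk k hk
  simp only [force_eq, and'_eq_true, beq_iff] at this
  exact ⟨this.1, V_of_vB this.2⟩

theorem V.exists_enH {x : ℕ} (hx : V x) : ∃ k < 21504, enH k = x := by
  let f : Fin 21504 → Hs := fun k => el (enH k)
  have h1 : Function.Injective f := fun k l h => Fin.ext (by
    rw [← (enH_spec k.2).1, el_inj (enH_spec k.2).2 (enH_spec l.2).2 h, (enH_spec l.2).1])
  have h2 : Function.Bijective f :=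
    (Nat.bijective_iff_injective_and_card f).2 ⟨h1, by rw [card_Hs]; simp⟩
  obtain ⟨k, hk⟩ := h2.2 (el x)
  exact ⟨k, k.2, el_inj (enH_spec k.2).2 hx hk⟩

/-- `p` holds for all valid codes -/
noncomputable def allH (p : ℕ → Bool) : Bool := allB 21504 fun k => force (enH k) p

theorem allH_spec {p : ℕ → Bool} (h : allH p = true) {x : ℕ} (hx : V x) : p x = true := by
  obtain ⟨k, hk, rfl⟩ := hx.exists_enH
  simpa using (allB_iff _ _).1 h k hk

theorem V.mu_iv {x : ℕ} (hx : V x) : He5.mu x (He5.iv x) = o5 := by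
  obtain ⟨k, hk, rfl⟩ := hx.exists_enH
  have := (allB_iff _ _).1 enH_chk k hk
  simp only [force_eq, and'_eq_true, beq_iff, vB] at this
  exact this.2.2.1

/-- the number of valid codes satisfying `p` -/
noncomputable def cntH (p : ℕ → Bool) : ℕ :=
  cntPow 15 fun k => and' (Nat.blt k 21504) (force (enH k) p)

theorem cntH_spec (p : ℕ → Bool) : Nat.card {x // V x ∧ p x = true} = cntH p := by
  rw [cntH, cntPow_eq, ← Nat.card_eq_finsetCard]
  refine Nat.card_congr (Equiv.symm (Equiv.ofBijective (fun k => ⟨enH k.1, ?_⟩) ⟨?_, ?_⟩))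
  · have := (Finset.mem_filter.1 k.2).2
    simp only [force_eq, and'_eq_true, blt_iff] at this
    exact ⟨(enH_spec this.1).2, this.2⟩
  · intro k l h
    have hk := (Finset.mem_filter.1 k.2).2
    have hl := (Finset.mem_filter.1 l.2).2
    simp only [force_eq, and'_eq_true, blt_iff] at hk hl
    have h' : enH k.1 = enH l.1 := congrArg Subtype.val h
    exact Subtype.ext (by rw [← (enH_spec hk.1).1, h', (enH_spec hl.1).1])
  · rintro ⟨x, hx, hp⟩
    obtain ⟨k, hk, rfl⟩ := hx.exists_enH
    refine ⟨⟨k, Finset.mem_filter.2 ⟨Finset.mem_range.2 (by omega), ?_⟩⟩, rfl⟩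
    simp only [force_eq, and'_eq_true, blt_iff]
    exact ⟨hk, hp⟩

/-- upper triangular -/
def isT (x : ℕ) : Bool := Nat.beq (Nat.land x (nat_lit 15961120)) (nat_lit 0)

def enT (i : ℕ) : ℕ :=
  Nat.lor (Nat.lor (Nat.lor o5 (Nat.shiftLeft (Nat.land i (nat_lit 15)) (nat_lit 1))) (Nat.shiftLeft (Nat.land i (nat_lit 112)) (nat_lit 3)))
    (Nat.lor (Nat.shiftLeft (Nat.land i (nat_lit 384)) (nat_lit 6)) (Nat.shiftLeft (Nat.land i (nat_lit 512)) (nat_lit 10)))

def idxT (x : ℕ) : ℕ :=
  Nat.lor (Nat.lor (Nat.land (Nat.shiftRight x (nat_lit 1)) (nat_lit 15)) (Nat.land (Nat.shiftRight x (nat_lit 3)) (nat_lit 112)))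
    (Nat.lor (Nat.land (Nat.shiftRight x (nat_lit 6)) (nat_lit 384)) (Nat.land (Nat.shiftRight x (nat_lit 10)) (nat_lit 512)))

theorem enT_chk : allH (fun x => or' (not' (isT x))
    (and' (Nat.beq (enT (idxT x)) x) (Nat.blt (idxT x) 1024))) = true := by decide +kernel

/-- `p` holds for all valid upper triangular codes -/
noncomputable def allT (p : ℕ → Bool) : Bool := allB 1024 fun k => force (enT k) p

theorem allT_spec {p : ℕ → Bool} (h : allT p = true) {x : ℕ} (hx : V x) (ht : isT x = true) :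
    p x = true := by
  have := allH_spec enT_chk hx
  simp only [or'_eq_true, not'_eq_true, ht, not_true, false_or, and'_eq_true, beq_iff, blt_iff] at this
  rw [← this.1]
  simpa using (allB_iff _ _).1 h _ this.2

theorem mu_assoc {x y w : ℕ} (hx : V x) (hy : V y) (hw : V w) : mu (mu x y) w = mu x (mu y w) :=
  el_inj ((hx.mu hy).mu hw) (hx.mu (hy.mu hw)) (by
    rw [el_mu (hx.mu hy) hw, el_mu hx hy, el_mu hx (hy.mu hw), el_mu hy hw, mul_assoc])

theorem o5_mu {x : ℕ} (hx : V x) : mu o5 x = x :=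
  el_inj (V_o5.mu hx) hx (by rw [el_mu V_o5 hx, el_o5, one_mul])

/-! ### Letters and words -/

/-- the codes of the letters `a, …, j, m, n` -/
def lets : List ℕ := [nat_lit 17043523, nat_lit 17043649, nat_lit 17051713, nat_lit 17567809, nat_lit 17043525, nat_lit 17043777, nat_lit 17059905, nat_lit 17043529, nat_lit 17044033, nat_lit 17043537, nat_lit 17041537, nat_lit 16916545]

/-- the value of a word, for given values of the letters -/
noncomputable def evc (im : List ℕ) (W : List ℕ) : ℕ :=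
  List.rec (motive := fun _ => ℕ) o5 (fun k _ ih => mu (BN.nth (nat_lit 0) im k) ih) W

theorem evc_nil (im : List ℕ) : evc im [] = o5 := rfl

theorem evc_cons (im : List ℕ) (k : ℕ) (W : List ℕ) :
    evc im (k :: W) = mu (BN.nth 0 im k) (evc im W) := rfl

theorem lets_chk : allL lets vB = true := by decide +kernel

theorem V_let {k : ℕ} (h : BN.nth 0 lets k ≠ 0) : V (BN.nth 0 lets k) := by
  by_cases hk : k < lets.length
  · exact V_of_vB ((allL_iff _ _).1 lets_chk _ (BN.nth_mem _ _ _ hk))
  · exact absurd (BN.nth_of_le _ _ _ (by omega)) h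

theorem mu_ne_zero {x y : ℕ} (h : mu x y ≠ 0) : x ≠ 0 ∧ y ≠ 0 :=
  ⟨fun e => h (by rw [e, mu_zero_left]), fun e => h (by rw [e, mu_zero_right])⟩

theorem V_evc {W : List ℕ} (h : evc lets W ≠ 0) : V (evc lets W) := by
  induction W with
  | nil => exact V_o5
  | cons k W ih =>
    rw [evc_cons] at h ⊢
    exact (V_let (mu_ne_zero h).1).mu (ih (mu_ne_zero h).2)

theorem V.ne_zero {x : ℕ} (h : V x) : x ≠ 0 := by
  rintro rfl
  have := h.mu_iv
  rw [mu_zero_left] at this
  exact absurd this (by decide)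

/-- prepend the letter `k` if bit `b` of `y` is set -/
noncomputable def pre (y b k : ℕ) (W : List ℕ) : List ℕ :=
  Bool.rec (motive := fun _ => List ℕ) (k :: W) W (Nat.beq (Nat.land y b) (nat_lit 0))

/-- a word in the roots for an upper triangular code -/
noncomputable def nfT (y : ℕ) : List ℕ :=
  pre y (nat_lit 524288) (nat_lit 3)
    (pre y (nat_lit 8192) (nat_lit 2)
    (pre y (nat_lit 16384) (nat_lit 6)
    (pre y (nat_lit 128) (nat_lit 1)
    (pre y (nat_lit 256) (nat_lit 5)
    (pre y (nat_lit 512) (nat_lit 8)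
    (pre y (nat_lit 2) (nat_lit 0)
    (pre y (nat_lit 4) (nat_lit 4)
    (pre y (nat_lit 8) (nat_lit 7)
    (pre y (nat_lit 16) (nat_lit 9)
    [])))))))))

theorem nfT_chk : allT (fun y => and' (Nat.beq (evc lets (nfT y)) y)
    (allL (nfT y) fun k => Nat.blt k 10)) = true := by decide +kernel

theorem isT_chk : allT (fun y => allLT 10 fun k => isT (mu (BN.nth 0 lets k) y)) = true := by
  decide +kernel

theorem isT_mu {x y : ℕ} (hx : V x) (hy : V y) (h1 : isT x = true) (h2 : isT y = true) :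
    isT (mu x y) = true := by
  have h := allT_spec nfT_chk hx h1
  simp only [and'_eq_true, beq_iff, allL_iff, blt_iff] at h
  obtain ⟨h3, h4⟩ := h
  have h5 : evc lets (nfT x) ≠ 0 := by rw [h3]; exact hx.ne_zero
  rw [← h3]
  generalize nfT x = W at h4 h5
  induction W with
  | nil => rwa [evc_nil, o5_mu hy]
  | cons k W ih =>
    rw [evc_cons] at h5 ⊢
    have h6 := V_evc (mu_ne_zero h5).2
    rw [mu_assoc (V_let (mu_ne_zero h5).1) h6 hy]
    exact (allLT_iff _ _).1 (allT_spec isT_chk (h6.mu hy)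
      (ih (fun k hk => h4 k (List.mem_cons_of_mem _ hk)) (mu_ne_zero h5).2)) k (h4 k List.mem_cons_self)

end Cfsg.Agent.He5
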