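import Cfsg.Agent.Comp.BitMore3

/-!
Presentations of the amalgams of `2 ^ 4 : L₄(2)`, `L₅(2)`, `M₂₄` and `He` over the centraliser of a
transvection of `SL(5, 2)`.  Letters `0, …, 9` are the root elements
`E01 E12 E23 E34 E02 E13 E24 E03 E14 E04` (written `a b c d e f g h i j`), `10, 11` are the
permutation matrices `(1 2)`, `(2 3)` (written `m n`), and `12, 13` (written `p q`) are the two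
further involutions.  All letters are involutions.
-/

set_option autoImplicit false

namespace Cfsg.Agent.He5

open Cfsg.Agent.Comp.BN

def PH : Pres := ⟨[0, 1, 2, 3, 4, 5, 6, 7, 8, 9, 10, 11],
  [[0, 1, 0, 1, 4],
   [0, 2, 0, 2],
   [0, 3, 0, 3],
   [0, 4, 0, 4],
   [0, 5, 0, 5, 7],
   [0, 6, 0, 6],
   [0, 7, 0, 7],
   [0, 8, 0, 8, 9],
   [0, 9, 0, 9],
   [1, 2, 1, 2, 5],
   [1, 3, 1, 3],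
   [1, 4, 1, 4],
   [1, 5, 1, 5],
   [1, 6, 1, 6, 8],
   [1, 7, 1, 7],
   [1, 8, 1, 8],
   [1, 9, 1, 9],
   [2, 3, 2, 3, 6],
   [2, 4, 2, 4, 7],
   [2, 5, 2, 5],
   [2, 6, 2, 6],
   [2, 7, 2, 7],
   [2, 8, 2, 8],
   [2, 9, 2, 9],
   [3, 4, 3, 4],
   [3, 5, 3, 5, 8],
   [3, 6, 3, 6],
   [3, 7, 3, 7, 9],
   [3, 8, 3, 8],
   [3, 9, 3, 9],
   [4, 5, 4, 5],
   [4, 6, 4, 6, 9],
   [4, 7, 4, 7],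
   [4, 8, 4, 8],
   [4, 9, 4, 9],
   [5, 6, 5, 6],
   [5, 7, 5, 7],
   [5, 8, 5, 8],
   [5, 9, 5, 9],
   [6, 7, 6, 7],
   [6, 8, 6, 8],
   [6, 9, 6, 9],
   [7, 8, 7, 8],
   [7, 9, 7, 9],
   [8, 9, 8, 9],
   [10, 1, 10, 1, 10, 1],
   [10, 0, 10, 4],
   [10, 2, 10, 5],
   [10, 3, 10, 3],
   [10, 4, 10, 0],
   [10, 5, 10, 2],
   [10, 6, 10, 8],
   [10, 7, 10, 7],
   [10, 8, 10, 6],
   [10, 9, 10, 9],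
   [11, 2, 11, 2, 11, 2],
   [11, 0, 11, 0],
   [11, 1, 11, 5],
   [11, 3, 11, 6],
   [11, 4, 11, 7],
   [11, 5, 11, 1],
   [11, 6, 11, 3],
   [11, 7, 11, 4],
   [11, 8, 11, 8],
   [11, 9, 11, 9],
   [10, 11, 10, 11, 10, 11]]⟩

def PL : Pres := ⟨[0, 1, 2, 3, 4, 5, 6, 7, 8, 9, 10, 11, 12, 13],
  [[0, 1, 0, 1, 4],
   [0, 2, 0, 2],
   [0, 3, 0, 3],
   [0, 4, 0, 4],
   [0, 5, 0, 5, 7],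
   [0, 6, 0, 6],
   [0, 7, 0, 7],
   [0, 8, 0, 8, 9],
   [0, 9, 0, 9],
   [1, 2, 1, 2, 5],
   [1, 3, 1, 3],
   [1, 4, 1, 4],
   [1, 5, 1, 5],
   [1, 6, 1, 6, 8],
   [1, 7, 1, 7],
   [1, 8, 1, 8],
   [1, 9, 1, 9],
   [2, 3, 2, 3, 6],
   [2, 4, 2, 4, 7],
   [2, 5, 2, 5],
   [2, 6, 2, 6],
   [2, 7, 2, 7],
   [2, 8, 2, 8],
   [2, 9, 2, 9],
   [3, 4, 3, 4],
   [3, 5, 3, 5, 8],
   [3, 6, 3, 6],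
   [3, 7, 3, 7, 9],
   [3, 8, 3, 8],
   [3, 9, 3, 9],
   [4, 5, 4, 5],
   [4, 6, 4, 6, 9],
   [4, 7, 4, 7],
   [4, 8, 4, 8],
   [4, 9, 4, 9],
   [5, 6, 5, 6],
   [5, 7, 5, 7],
   [5, 8, 5, 8],
   [5, 9, 5, 9],
   [6, 7, 6, 7],
   [6, 8, 6, 8],
   [6, 9, 6, 9],
   [7, 8, 7, 8],
   [7, 9, 7, 9],
   [8, 9, 8, 9],
   [10, 1, 10, 1, 10, 1],
   [10, 0, 10, 4],
   [10, 2, 10, 5],
   [10, 3, 10, 3],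
   [10, 6, 10, 8],
   [10, 7, 10, 7],
   [10, 9, 10, 9],
   [11, 2, 11, 2, 11, 2],
   [11, 0, 11, 0],
   [11, 1, 11, 5],
   [11, 3, 11, 6],
   [11, 4, 11, 7],
   [11, 8, 11, 8],
   [11, 9, 11, 9],
   [10, 11, 10, 11, 10, 11],
   [13, 3, 13, 3, 13, 3],
   [13, 0, 13, 0],
   [13, 1, 13, 1],
   [13, 2, 13, 6],
   [13, 4, 13, 4],
   [13, 5, 13, 8],
   [13, 7, 13, 9],
   [13, 10, 13, 10],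
   [12],
   [11, 13, 11, 13, 11, 13]]⟩

def PLbad : Pres := ⟨[0, 1, 2, 3, 4, 5, 6, 7, 8, 9, 10, 11, 12, 13],
  [[0, 1, 0, 1, 4],
   [0, 2, 0, 2],
   [0, 3, 0, 3],
   [0, 4, 0, 4],
   [0, 5, 0, 5, 7],
   [0, 6, 0, 6],
   [0, 7, 0, 7],
   [0, 8, 0, 8, 9],
   [0, 9, 0, 9],
   [1, 2, 1, 2, 5],
   [1, 3, 1, 3],
   [1, 4, 1, 4],
   [1, 5, 1, 5],
   [1, 6, 1, 6, 8],
   [1, 7, 1, 7],
   [1, 8, 1, 8],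
   [1, 9, 1, 9],
   [2, 3, 2, 3, 6],
   [2, 4, 2, 4, 7],
   [2, 5, 2, 5],
   [2, 6, 2, 6],
   [2, 7, 2, 7],
   [2, 8, 2, 8],
   [2, 9, 2, 9],
   [3, 4, 3, 4],
   [3, 5, 3, 5, 8],
   [3, 6, 3, 6],
   [3, 7, 3, 7, 9],
   [3, 8, 3, 8],
   [3, 9, 3, 9],
   [4, 5, 4, 5],
   [4, 6, 4, 6, 9],
   [4, 7, 4, 7],
   [4, 8, 4, 8],
   [4, 9, 4, 9],
   [5, 6, 5, 6],
   [5, 7, 5, 7],
   [5, 8, 5, 8],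
   [5, 9, 5, 9],
   [6, 7, 6, 7],
   [6, 8, 6, 8],
   [6, 9, 6, 9],
   [7, 8, 7, 8],
   [7, 9, 7, 9],
   [8, 9, 8, 9],
   [10, 1, 10, 1, 10, 1],
   [10, 0, 10, 4],
   [10, 2, 10, 5],
   [10, 3, 10, 3],
   [10, 6, 10, 8],
   [10, 7, 10, 7],
   [10, 9, 10, 9],
   [11, 2, 11, 2, 11, 2],
   [11, 0, 11, 0],
   [11, 1, 11, 5],
   [11, 3, 11, 6],
   [11, 4, 11, 7],
   [11, 8, 11, 8],
   [11, 9, 11, 9],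
   [10, 11, 10, 11, 10, 11],
   [13, 3, 13, 3, 13, 3],
   [13, 0, 13, 0],
   [13, 1, 13, 1],
   [13, 2, 13, 6],
   [13, 4, 13, 4],
   [13, 5, 13, 8],
   [13, 7, 13, 9],
   [13, 10, 13, 10],
   [12],
   [11, 13, 11, 13, 11, 13, 4, 7, 9]]⟩

def PLL : Pres := ⟨[0, 1, 2, 3, 4, 5, 6, 7, 8, 9, 10, 11, 12, 13],
  [[0, 1, 0, 1, 4],
   [0, 2, 0, 2],
   [0, 3, 0, 3],
   [0, 4, 0, 4],
   [0, 5, 0, 5, 7],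
   [0, 6, 0, 6],
   [0, 7, 0, 7],
   [0, 8, 0, 8, 9],
   [0, 9, 0, 9],
   [1, 2, 1, 2, 5],
   [1, 3, 1, 3],
   [1, 4, 1, 4],
   [1, 5, 1, 5],
   [1, 6, 1, 6, 8],
   [1, 7, 1, 7],
   [1, 8, 1, 8],
   [1, 9, 1, 9],
   [2, 3, 2, 3, 6],
   [2, 4, 2, 4, 7],
   [2, 5, 2, 5],
   [2, 6, 2, 6],
   [2, 7, 2, 7],
   [2, 8, 2, 8],
   [2, 9, 2, 9],
   [3, 4, 3, 4],
   [3, 5, 3, 5, 8],
   [3, 6, 3, 6],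
   [3, 7, 3, 7, 9],
   [3, 8, 3, 8],
   [3, 9, 3, 9],
   [4, 5, 4, 5],
   [4, 6, 4, 6, 9],
   [4, 7, 4, 7],
   [4, 8, 4, 8],
   [4, 9, 4, 9],
   [5, 6, 5, 6],
   [5, 7, 5, 7],
   [5, 8, 5, 8],
   [5, 9, 5, 9],
   [6, 7, 6, 7],
   [6, 8, 6, 8],
   [6, 9, 6, 9],
   [7, 8, 7, 8],
   [7, 9, 7, 9],
   [8, 9, 8, 9],
   [10, 1, 10, 1, 10, 1],
   [10, 0, 10, 4],
   [10, 2, 10, 5],
   [10, 3, 10, 3],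
   [10, 6, 10, 8],
   [10, 7, 10, 7],
   [10, 9, 10, 9],
   [11, 2, 11, 2, 11, 2],
   [11, 0, 11, 0],
   [11, 1, 11, 5],
   [11, 3, 11, 6],
   [11, 4, 11, 7],
   [11, 8, 11, 8],
   [11, 9, 11, 9],
   [10, 11, 10, 11, 10, 11],
   [12, 0, 12, 0, 12, 0],
   [12, 1, 12, 4],
   [12, 2, 12, 2],
   [12, 3, 12, 3],
   [12, 5, 12, 7],
   [12, 6, 12, 6],
   [12, 8, 12, 9],
   [12, 11, 12, 11],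
   [13, 3, 13, 3, 13, 3],
   [13, 0, 13, 0],
   [13, 1, 13, 1],
   [13, 2, 13, 6],
   [13, 4, 13, 4],
   [13, 5, 13, 8],
   [13, 7, 13, 9],
   [13, 10, 13, 10],
   [12, 13, 12, 13],
   [11, 13, 11, 13, 11, 13],
   [10, 12, 10, 12, 10, 12]]⟩

def PLS : Pres := ⟨[0, 1, 2, 3, 4, 5, 6, 7, 8, 9, 10, 11, 12, 13],
  [[0, 1, 0, 1, 4],
   [0, 2, 0, 2],
   [0, 3, 0, 3],
   [0, 4, 0, 4],
   [0, 5, 0, 5, 7],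
   [0, 6, 0, 6],
   [0, 7, 0, 7],
   [0, 8, 0, 8, 9],
   [0, 9, 0, 9],
   [1, 2, 1, 2, 5],
   [1, 3, 1, 3],
   [1, 4, 1, 4],
   [1, 5, 1, 5],
   [1, 6, 1, 6, 8],
   [1, 7, 1, 7],
   [1, 8, 1, 8],
   [1, 9, 1, 9],
   [2, 3, 2, 3, 6],
   [2, 4, 2, 4, 7],
   [2, 5, 2, 5],
   [2, 6, 2, 6],
   [2, 7, 2, 7],
   [2, 8, 2, 8],
   [2, 9, 2, 9],
   [3, 4, 3, 4],
   [3, 5, 3, 5, 8],
   [3, 6, 3, 6],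
   [3, 7, 3, 7, 9],
   [3, 8, 3, 8],
   [3, 9, 3, 9],
   [4, 5, 4, 5],
   [4, 6, 4, 6, 9],
   [4, 7, 4, 7],
   [4, 8, 4, 8],
   [4, 9, 4, 9],
   [5, 6, 5, 6],
   [5, 7, 5, 7],
   [5, 8, 5, 8],
   [5, 9, 5, 9],
   [6, 7, 6, 7],
   [6, 8, 6, 8],
   [6, 9, 6, 9],
   [7, 8, 7, 8],
   [7, 9, 7, 9],
   [8, 9, 8, 9],
   [10, 1, 10, 1, 10, 1],
   [10, 0, 10, 4],
   [10, 2, 10, 5],
   [10, 3, 10, 3],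
   [10, 6, 10, 8],
   [10, 7, 10, 7],
   [10, 9, 10, 9],
   [11, 2, 11, 2, 11, 2],
   [11, 0, 11, 0],
   [11, 1, 11, 5],
   [11, 3, 11, 6],
   [11, 4, 11, 7],
   [11, 8, 11, 8],
   [11, 9, 11, 9],
   [10, 11, 10, 11, 10, 11],
   [12, 0, 12, 0, 12, 0],
   [12, 1, 12, 4],
   [12, 2, 12, 2],
   [12, 3, 12, 3],
   [12, 5, 12, 7],
   [12, 6, 12, 6],
   [12, 8, 12, 9],
   [12, 11, 12, 11],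
   [13, 3, 13, 3, 13, 3],
   [13, 0, 13, 9, 7, 6, 2, 0],
   [13, 1, 13, 9, 7, 1],
   [13, 2, 13, 6],
   [13, 4, 13, 0, 8, 5, 4, 0],
   [13, 5, 13, 8],
   [13, 7, 13, 9],
   [13, 10, 13, 10, 9, 7],
   [12, 13, 12, 13, 6, 2],
   [12, 4, 13, 4, 11, 4, 13, 4, 11, 3, 4, 13, 4, 11, 3, 4, 13, 4, 11, 3, 2, 0],
   [6, 12, 9, 10, 6, 12, 9, 10, 6, 12, 9, 10]]⟩

def PSS : Pres := ⟨[0, 1, 2, 3, 4, 5, 6, 7, 8, 9, 10, 11, 12, 13],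
  [[0, 1, 0, 1, 4],
   [0, 2, 0, 2],
   [0, 3, 0, 3],
   [0, 4, 0, 4],
   [0, 5, 0, 5, 7],
   [0, 6, 0, 6],
   [0, 7, 0, 7],
   [0, 8, 0, 8, 9],
   [0, 9, 0, 9],
   [1, 2, 1, 2, 5],
   [1, 3, 1, 3],
   [1, 4, 1, 4],
   [1, 5, 1, 5],
   [1, 6, 1, 6, 8],
   [1, 7, 1, 7],
   [1, 8, 1, 8],
   [1, 9, 1, 9],
   [2, 3, 2, 3, 6],
   [2, 4, 2, 4, 7],
   [2, 5, 2, 5],
   [2, 6, 2, 6],
   [2, 7, 2, 7],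
   [2, 8, 2, 8],
   [2, 9, 2, 9],
   [3, 4, 3, 4],
   [3, 5, 3, 5, 8],
   [3, 6, 3, 6],
   [3, 7, 3, 7, 9],
   [3, 8, 3, 8],
   [3, 9, 3, 9],
   [4, 5, 4, 5],
   [4, 6, 4, 6, 9],
   [4, 7, 4, 7],
   [4, 8, 4, 8],
   [4, 9, 4, 9],
   [5, 6, 5, 6],
   [5, 7, 5, 7],
   [5, 8, 5, 8],
   [5, 9, 5, 9],
   [6, 7, 6, 7],
   [6, 8, 6, 8],
   [6, 9, 6, 9],
   [7, 8, 7, 8],
   [7, 9, 7, 9],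
   [8, 9, 8, 9],
   [10, 1, 10, 1, 10, 1],
   [10, 0, 10, 4],
   [10, 2, 10, 5],
   [10, 3, 10, 3],
   [10, 6, 10, 8],
   [10, 7, 10, 7],
   [10, 9, 10, 9],
   [11, 2, 11, 2, 11, 2],
   [11, 0, 11, 0],
   [11, 1, 11, 5],
   [11, 3, 11, 6],
   [11, 4, 11, 7],
   [11, 8, 11, 8],
   [11, 9, 11, 9],
   [10, 11, 10, 11, 10, 11],
   [12, 0, 12, 0, 12, 0],
   [12, 1, 12, 4],
   [12, 2, 12, 9, 8, 2],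
   [12, 3, 12, 0, 8, 3, 1, 0],
   [12, 5, 12, 7],
   [12, 6, 12, 0, 8, 6, 5, 0],
   [12, 8, 12, 9],
   [12, 11, 12, 11, 9, 8],
   [13, 3, 13, 3, 13, 3],
   [13, 0, 13, 9, 7, 6, 2, 0],
   [13, 1, 13, 9, 7, 1],
   [13, 2, 13, 6],
   [13, 4, 13, 0, 8, 5, 4, 0],
   [13, 5, 13, 8],
   [13, 7, 13, 9],
   [13, 10, 13, 10, 9, 7],
   [12, 13, 12, 13, 2, 4, 6, 1],
   [12, 4, 5, 7, 13, 9, 11, 4, 5, 7, 13, 9, 11, 3, 4, 9, 4, 5, 7, 13, 9, 11, 3, 4, 9, 4, 5, 7, 13, 9, 11, 3, 4, 9, 2, 9, 0],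
   [13, 5, 6, 8, 12, 9, 10, 5, 6, 8, 12, 9, 10, 0, 6, 9, 5, 6, 8, 12, 9, 10, 0, 6, 9, 5, 6, 8, 12, 9, 10, 0, 6, 9, 1, 9, 3]]⟩

end Cfsg.Agent.He5
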