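import Cfsg.Agent.He5.Code
import Cfsg.Agent.He5.Ext
import Cfsg.Agent.He5.Pres

/-! A group with an involution whose centraliser is given by codes; conjugation tables. -/

set_option autoImplicit false

namespace Cfsg.Agent.He5

open Cfsg.Agent.Comp

variable {G : Type*} [Group G]

/-- `φ` is an isomorphism from the valid codes onto the centraliser of `z` -/
structure Cod (z : G) (φ : ℕ → G) : Prop where
  map_mu : ∀ {x y}, V x → V y → φ (mu x y) = φ x * φ y
  inj : ∀ {x y}, V x → V y → φ x = φ y → x = y
  z_eq : φ zc = z
  surj : ∀ g, Commute g z → ∃ x, V x ∧ φ x = g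

theorem V_zc : V zc := V_of_vB (by decide +kernel)

/-- commuting codes -/
noncomputable def cm (x y : ℕ) : Bool := Nat.beq (mu x y) (mu y x)

theorem V.cm_zc {x : ℕ} (h : V x) : He5.mu x zc = He5.mu zc x := by
  refine el_inj (h.mu V_zc) (V_zc.mu h) ?_
  rw [el_mu h V_zc, el_mu V_zc h]
  have e : (el zc : SL5) = zs := by ext1; rw [coe_el V_zc]; rfl
  ext1
  change (el x : SL5) * el zc = el zc * el x
  rw [e]
  exact Subgroup.mem_centralizer_singleton_iff.1 (el x).2

theorem center_chk : allH (fun x => or' (anyL lets fun l => not' (cm x l))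
    (or' (Nat.beq x o5) (Nat.beq x zc))) = true := by decide +kernel

theorem exists_cod {z : G} (hz : z ≠ 1) (s : SL5)
    (hs : (s : Matrix (Fin 5) (Fin 5) (ZMod 2)) = Matrix.transvection 0 1 1)
    (e : Subgroup.centralizer ({z} : Set G) ≃* Subgroup.centralizer ({s} : Set SL5)) :
    ∃ φ, Cod z φ := by
  obtain ⟨f⟩ := BN.centralizer_equiv (conj_s s hs)
  set e' := e.trans f
  refine ⟨fun x => (e'.symm (el x) : G), fun hx hy => by rw [el_mu hx hy, map_mul]; rfl,
    fun hx hy h => el_inj hx hy (e'.symm.injective (Subtype.ext h)), ?_, fun g hg => ?_⟩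
  · obtain ⟨x, hx, h⟩ := el_surj (e' ⟨z, Subgroup.mem_centralizer_singleton_iff.2 rfl⟩)
    have h1 := allH_spec center_chk hx
    simp only [or'_eq_true, anyL_iff, not'_eq_true, beq_iff, cm] at h1
    rcases h1 with ⟨l, hl, h1⟩ | rfl | rfl
    · have hl' := V_of_vB ((allL_iff _ _).1 lets_chk l hl)
      refine absurd (el_inj (hx.mu hl') (hl'.mu hx) ?_) h1
      rw [el_mu hx hl', el_mu hl' hx, h, ← e'.apply_symm_apply (el l), ← map_mul, ← map_mul]
      congr 1
      exact Subtype.ext (Subgroup.mem_centralizer_singleton_iff.1 (e'.symm (el l)).2).symm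
    · rw [el_o5, eq_comm, map_eq_one_iff _ e'.injective] at h
      exact absurd (congrArg Subtype.val h) hz
    · simp only [h, MulEquiv.symm_apply_apply]
  · obtain ⟨x, hx, h⟩ := el_surj (e' ⟨g, Subgroup.mem_centralizer_singleton_iff.2 hg⟩)
    exact ⟨x, hx, by simp only [h, MulEquiv.symm_apply_apply]⟩

namespace Cod
variable {z : G} {φ : ℕ → G}

theorem one (h : Cod z φ) : φ o5 = 1 := by
  have := h.map_mu V_o5 V_o5
  rw [o5_mu V_o5] at this
  exact left_eq_mul.1 this

theorem comm (h : Cod z φ) {x : ℕ} (hx : V x) : Commute (φ x) z := by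
  rw [← h.z_eq]
  change φ x * φ zc = φ zc * φ x
  rw [← h.map_mu hx V_zc, ← h.map_mu V_zc hx, hx.cm_zc]

theorem cm_iff (h : Cod z φ) {x y : ℕ} (hx : V x) (hy : V y) :
    cm x y = true ↔ Commute (φ x) (φ y) := by
  rw [cm, beq_iff]
  change _ ↔ φ x * φ y = φ y * φ x
  rw [← h.map_mu hx hy, ← h.map_mu hy hx]
  exact ⟨fun e => by rw [e], h.inj (hx.mu hy) (hy.mu hx)⟩

theorem eq_one_iff (h : Cod z φ) {x : ℕ} (hx : V x) : φ x = 1 ↔ x = o5 :=
  ⟨fun e => h.inj hx V_o5 (by rw [e, h.one]), fun e => by rw [e, h.one]⟩

theorem sq (h : Cod z φ) {x : ℕ} (hx : V x) (e : mu x x = o5) : φ x * φ x = 1 := by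
  rw [← h.map_mu hx hx, e, h.one]

theorem z_sq (h : Cod z φ) : z * z = 1 := h.z_eq ▸ h.sq V_zc (by decide +kernel)

theorem z_ne (h : Cod z φ) : z ≠ 1 := fun e =>
  absurd ((h.eq_one_iff V_zc).1 (h.z_eq.trans e)) (by decide)

theorem map_iv (h : Cod z φ) {x : ℕ} (hx : V x) : φ (iv x) = (φ x)⁻¹ :=
  eq_inv_of_mul_eq_one_right (by rw [← h.map_mu hx hx.iv, hx.mu_iv, h.one])

theorem conj_of (h : Cod z φ) {x y r : ℕ} (hx : V x) (hy : V y) (hr : V r) (e : mu y x = mu r y) :
    φ y * φ x * (φ y)⁻¹ = φ r := by
  rw [← h.map_mu hy hx, e, h.map_mu hr hy, mul_inv_cancel_right]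

theorem card_of (h : Cod z φ) {R : Subgroup G} {p : ℕ → Bool} (h1 : ∀ g ∈ R, Commute g z)
    (h2 : ∀ x, V x → (p x = true ↔ φ x ∈ R)) : Nat.card R = cntH p := by
  rw [← cntH_spec]
  refine Nat.card_congr (Equiv.symm (Equiv.ofBijective
    (fun x => ⟨φ x.1, (h2 x.1 x.2.1).1 x.2.2⟩) ⟨fun x y e => ?_, fun g => ?_⟩))
  · exact Subtype.ext (h.inj x.2.1 y.2.1 (congrArg Subtype.val e))
  · obtain ⟨x, hx, e⟩ := h.surj g (h1 g g.2)
    exact ⟨⟨x, hx, (h2 x hx).2 (e ▸ g.2)⟩, Subtype.ext e⟩

theorem card_H (h : Cod z φ) : Nat.card (Subgroup.centralizer {z}) = 21504 := by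
  rw [h.card_of (p := fun _ => true) (fun g hg => Subgroup.mem_centralizer_singleton_iff.1 hg)
    fun x hx => by simpa using Subgroup.mem_centralizer_singleton_iff.2 (h.comm hx).eq]
  decide +kernel

theorem pow8_chk : allT (fun x => force (mu x x) fun y => force (mu y y) fun w =>
    and' (or' (Nat.beq w o5) (Nat.beq w zc)) (isT (iv x))) = true := by decide +kernel

/-- the Sylow 2-subgroup of upper triangular matrices -/
def T (h : Cod z φ) : Subgroup G where
  carrier := {g | ∃ x, V x ∧ isT x = true ∧ φ x = g}
  one_mem' := ⟨o5, V_o5, by decide, h.one⟩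
  mul_mem' := by
    rintro _ _ ⟨x, hx, h1, rfl⟩ ⟨y, hy, h2, rfl⟩
    exact ⟨_, hx.mu hy, isT_mu hx hy h1 h2, h.map_mu hx hy⟩
  inv_mem' := by
    rintro _ ⟨x, hx, h1, rfl⟩
    have := allT_spec pow8_chk hx h1
    simp only [force_eq, and'_eq_true] at this
    exact ⟨_, hx.iv, this.2, h.map_iv hx⟩

theorem mem_T (h : Cod z φ) {x : ℕ} (hx : V x) : φ x ∈ h.T ↔ isT x = true :=
  ⟨fun ⟨_, hy, h1, e⟩ => h.inj hy hx e ▸ h1, fun h1 => ⟨x, hx, h1, rfl⟩⟩

theorem comm_T (h : Cod z φ) {g : G} (hg : g ∈ h.T) : Commute g z := by
  obtain ⟨x, hx, -, rfl⟩ := hg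
  exact h.comm hx

theorem pow4_T (h : Cod z φ) {g : G} (hg : g ∈ h.T) : g ^ 4 = 1 ∨ g ^ 4 = z := by
  obtain ⟨x, hx, h1, rfl⟩ := hg
  have := allT_spec pow8_chk hx h1
  simp only [force_eq, and'_eq_true, or'_eq_true, beq_iff] at this
  have e : φ x ^ 4 = φ (mu (mu x x) (mu x x)) := by
    rw [h.map_mu (hx.mu hx) (hx.mu hx), h.map_mu hx hx, ← pow_two, ← pow_two, ← pow_mul]
  rcases this.1 with e' | e' <;> rw [e, e']
  · exact Or.inl h.one
  · exact Or.inr h.z_eq

theorem pow8_T (h : Cod z φ) {g : G} (hg : g ∈ h.T) : g ^ 2 ^ 3 = 1 := by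
  rw [show 2 ^ 3 = 4 * 2 by norm_num, pow_mul]
  rcases h.pow4_T hg with e | e <;> rw [e]
  · simp
  · rw [pow_two, h.z_sq]

theorem T_p (h : Cod z φ) : IsPGroup 2 h.T := fun g => ⟨3, Subtype.ext (h.pow8_T g.2)⟩

theorem card_T (h : Cod z φ) : Nat.card h.T = 1024 := by
  rw [h.card_of (p := isT) (fun g hg => h.comm_T hg) fun x hx => (h.mem_T hx).symm]
  decide +kernel

end Cod

/-! ### Conjugation tables -/

/-- conjugation by `w` sends the letters with a non-zero entry in `im` to that entry -/
def CA (φ : ℕ → G) (w : G) (im : List ℕ) : Prop :=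
  ∀ k, BN.nth 0 im k ≠ 0 → V (BN.nth 0 im k) ∧ w * φ (BN.nth 0 lets k) * w⁻¹ = φ (BN.nth 0 im k)

def cosetReps : List (List ℕ × ℕ) := [([], nat_lit 17043521),
   ([10], nat_lit 17041537),
   ([10, 1], nat_lit 17041601),
   ([11], nat_lit 16916545),
   ([11, 2], nat_lit 16920641),
   ([10, 11], nat_lit 16851073),
   ([11, 10], nat_lit 16910593),
   ([10, 1, 11], nat_lit 16851137),
   ([10, 11, 2], nat_lit 16853121),
   ([10, 11, 10], nat_lit 16847105),
   ([11, 2, 10], nat_lit 16910721),
   ([11, 10, 1], nat_lit 16910657),
   ([10, 1, 11, 2], nat_lit 16853185),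
   ([10, 1, 11, 10], nat_lit 16849153),
   ([10, 11, 2, 10], nat_lit 16847169),
   ([10, 11, 10, 1], nat_lit 16847233),
   ([11, 2, 10, 1], nat_lit 16910785),
   ([10, 1, 11, 2, 10], nat_lit 16849217),
   ([10, 1, 11, 10, 1], nat_lit 16849345),
   ([10, 11, 2, 10, 1], nat_lit 16847297),
   ([10, 11, 10, 1, 2], nat_lit 16849281)]

/-- a word for a valid code -/
noncomputable def nf (y : ℕ) : List ℕ :=
  List.rec (motive := fun _ => List ℕ) [] (fun r _ ih => force (mu y r.2) fun u =>
    Bool.rec (motive := fun _ => List ℕ) ih (BN.appendL (nfT u) r.1) (isT u)) cosetReps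

/-- the image of a code under a conjugation table, or zero -/
noncomputable def app (im : List ℕ) (y : ℕ) : ℕ :=
  force y fun y => Bool.rec (motive := fun _ => ℕ) (nat_lit 0) (evc im (nf y))
    (and' (Nat.blt (nat_lit 0) y) (Nat.beq (evc lets (nf y)) y))

variable {z : G} {φ : ℕ → G}

theorem Cod.evc_conj (h : Cod z φ) {w : G} {im : List ℕ} (hw : CA φ w im) {W : List ℕ}
    (h0 : evc lets W ≠ 0) (h1 : evc im W ≠ 0) :
    V (evc im W) ∧ w * φ (evc lets W) * w⁻¹ = φ (evc im W) := by
  induction W with
  | nil => exact ⟨V_o5, by rw [evc_nil, evc_nil, h.one]; group⟩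
  | cons k W ih =>
    rw [evc_cons] at h0 h1 ⊢
    obtain ⟨a1, a2⟩ := ih (mu_ne_zero h0).2 (mu_ne_zero h1).2
    obtain ⟨b1, b2⟩ := hw k (mu_ne_zero h1).1
    refine ⟨b1.mu a1, ?_⟩
    rw [evc_cons, h.map_mu b1 a1, h.map_mu (V_let (mu_ne_zero h0).1) (V_evc (mu_ne_zero h0).2), ← a2,
      ← b2]
    group

theorem Cod.app_spec (h : Cod z φ) {w : G} {im : List ℕ} (hw : CA φ w im) {y : ℕ}
    (h1 : app im y ≠ 0) : V y ∧ V (app im y) ∧ w * φ y * w⁻¹ = φ (app im y) := by
  simp only [app, force_eq] at h1 ⊢
  cases hb : and' (Nat.blt 0 y) (Nat.beq (evc lets (nf y)) y)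
  · rw [hb] at h1; exact absurd rfl h1
  · rw [hb] at h1
    simp only [and'_eq_true, blt_iff, beq_iff] at hb
    have h0 : evc lets (nf y) ≠ 0 := by rw [hb.2]; omega
    have := h.evc_conj hw h0 h1
    have h2 := V_evc h0
    rw [hb.2] at this h2
    exact ⟨h2, this⟩

theorem Cod.app_eq (h : Cod z φ) {w : G} {im : List ℕ} (hw : CA φ w im) {y y' : ℕ}
    (h1 : app im y = y') (h2 : y' ≠ 0) : w * φ y * w⁻¹ = φ y' := by
  subst h1
  exact (h.app_spec hw h2).2.2

/-- the tuple of the fourteen letters -/
noncomputable def tup (φ : ℕ → G) (p q : G) (k : ℕ) : G :=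
  if k < 12 then φ (BN.nth 0 lets k) else if k = 12 then p else if k = 13 then q else 1

/-- conjugation of a code by a word in the fourteen letters -/
noncomputable def walk (ip iq : List ℕ) (W : List ℕ) (y : ℕ) : ℕ :=
  List.rec (motive := fun _ => ℕ) y (fun k _ ih => force ih fun u =>
    ite' (Nat.blt k 12) (force (BN.nth 0 lets k) fun l => mu (mu l u) l)
      (ite' (Nat.beq k 12) (app ip u) (ite' (Nat.beq k 13) (app iq u) 0))) W

theorem lets_sq : allLT 12 (fun k => and' (Nat.beq (mu (BN.nth 0 lets k) (BN.nth 0 lets k)) o5)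
    (Nat.blt 0 (BN.nth 0 lets k))) = true := by decide +kernel

theorem let_spec {k : ℕ} (hk : k < 12) :
    V (BN.nth 0 lets k) ∧ mu (BN.nth 0 lets k) (BN.nth 0 lets k) = o5 := by
  have := (allLT_iff _ _).1 lets_sq k hk
  simp only [and'_eq_true, beq_iff, blt_iff] at this
  exact ⟨V_let (by omega), this.1⟩

theorem app_zero (im : List ℕ) : app im 0 = 0 := rfl

theorem Cod.walk_spec (h : Cod z φ) {p q : G} {ip iq : List ℕ} (hp : CA φ p ip) (hq : CA φ q iq)
    {W : List ℕ} {y : ℕ} (hy : V y) (h1 : walk ip iq W y ≠ 0) :
    V (walk ip iq W y) ∧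
      BN.ev (tup φ p q) W * φ y * (BN.ev (tup φ p q) W)⁻¹ = φ (walk ip iq W y) := by
  induction W with
  | nil => exact ⟨hy, by simp; rfl⟩
  | cons k W ih =>
    have e : walk ip iq (k :: W) y = force (walk ip iq W y) fun u =>
      ite' (Nat.blt k 12) (force (BN.nth 0 lets k) fun l => mu (mu l u) l)
        (ite' (Nat.beq k 12) (app ip u) (ite' (Nat.beq k 13) (app iq u) 0)) := rfl
    simp only [force_eq, ite'_eq, blt_iff, beq_iff] at e
    have e2 : ∀ g v : G, g * v * φ y * (g * v)⁻¹ = g * (v * φ y * v⁻¹) * g⁻¹ := fun g v => by group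
    rw [e] at h1 ⊢
    rw [BN.ev_cons, e2]
    split_ifs at h1 ⊢ with c1 c2 c3
    · obtain ⟨a1, a2⟩ := ih (mu_ne_zero (mu_ne_zero h1).1).2
      obtain ⟨b1, b2⟩ := let_spec c1
      refine ⟨(b1.mu a1).mu b1, ?_⟩
      rw [a2, tup, if_pos c1, h.map_mu (b1.mu a1) b1, h.map_mu b1 a1, inv_self (h.sq b1 b2)]
    · obtain ⟨-, a2⟩ := ih fun e => h1 (by rw [e, app_zero])
      rw [a2, tup, if_neg c1, if_pos c2]
      exact (h.app_spec hp h1).2
    · obtain ⟨-, a2⟩ := ih fun e => h1 (by rw [e, app_zero])
      rw [a2, tup, if_neg c1, if_neg c2, if_pos c3]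
      exact (h.app_spec hq h1).2
    · exact absurd rfl h1

theorem Cod.walk_eq (h : Cod z φ) {p q : G} {ip iq : List ℕ} (hp : CA φ p ip) (hq : CA φ q iq)
    (W : List ℕ) {y y' : ℕ} (hy : V y) (h1 : walk ip iq W y = y') (h2 : y' ≠ 0) :
    BN.ev (tup φ p q) W * φ y * (BN.ev (tup φ p q) W)⁻¹ = φ y' := by
  subst h1
  exact (h.walk_spec hp hq hy h2).2

theorem Cod.ev_lets (h : Cod z φ) (p q : G) {W : List ℕ} (h0 : evc lets W ≠ 0) :
    BN.ev (tup φ p q) W = φ (evc lets W) := by
  induction W with
  | nil => exact h.one.symm
  | cons k W ih =>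
    rw [evc_cons] at h0 ⊢
    have hk : k < 12 := by
      by_contra hk
      exact (mu_ne_zero h0).1 (BN.nth_of_le _ _ _ (not_lt.1 hk))
    rw [BN.ev_cons, ih (mu_ne_zero h0).2, tup, if_pos hk,
      h.map_mu (V_let (mu_ne_zero h0).1) (V_evc (mu_ne_zero h0).2)]

theorem CA_nil (w : G) : CA φ w [] := fun _ h => absurd rfl h

/-- relators that follow from the tables -/
noncomputable def relB (ip iq : List ℕ) (r : List ℕ) : Bool :=
  or' (Nat.beq (evc lets r) o5)
    (force (r.getD 0 0) fun k => and' (Nat.ble 3 r.length) (and' (Nat.beq (r.getD 2 0) k)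
      (and' (Nat.ble 12 k)
        (Nat.beq (mu (walk ip iq [k] (evc lets [r.getD 1 0])) (evc lets (r.drop 3))) o5))))

theorem Cod.tup_sq (h : Cod z φ) {p q : G} (p2 : p * p = 1) (q2 : q * q = 1) (k : ℕ) :
    tup φ p q k * tup φ p q k = 1 := by
  rw [tup]
  split_ifs with c1
  · exact h.sq (let_spec c1).1 (let_spec c1).2
  · exact p2
  · exact q2
  · exact one_mul 1

theorem walk_zero (ip iq : List ℕ) (k : ℕ) : walk ip iq [k] 0 = 0 := by
  have e : walk ip iq [k] 0 = force 0 fun u =>
    ite' (Nat.blt k 12) (force (BN.nth 0 lets k) fun l => mu (mu l u) l)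
      (ite' (Nat.beq k 12) (app ip u) (ite' (Nat.beq k 13) (app iq u) 0)) := rfl
  simp only [force_eq, ite'_eq, app_zero, mu_zero_left, mu_zero_right, ite_self] at e
  exact e

theorem Cod.relB_spec (h : Cod z φ) {p q : G} {ip iq : List ℕ} (hp : CA φ p ip) (hq : CA φ q iq)
    (p2 : p * p = 1) (q2 : q * q = 1) {r : List ℕ} (hr : relB ip iq r = true) :
    BN.ev (tup φ p q) r = 1 := by
  simp only [relB, or'_eq_true, and'_eq_true, beq_iff, force_eq, ble_iff] at hr
  have o0 : o5 ≠ 0 := by decide
  rcases hr with hr | ⟨h1, h2, -, h4⟩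
  · rw [h.ev_lets p q (hr ▸ o0), hr, h.one]
  · match r, h1 with
    | k :: l :: k' :: W, _ =>
      simp only [List.getD_cons_zero, List.getD_cons_succ, List.drop_succ_cons, List.drop_zero] at h2 h4
      subst h2
      obtain ⟨a1, a2⟩ := mu_ne_zero (h4 ▸ o0)
      have a3 : evc lets [l] ≠ 0 := fun e => a1 (by rw [e, walk_zero])
      obtain ⟨b1, b2⟩ := h.walk_spec hp hq (V_evc a3) a1
      rw [← h.ev_lets p q a3] at b2
      have b3 := h.map_mu b1 (V_evc a2)
      rw [h4, h.one, ← b2, ← h.ev_lets p q a2] at b3
      simp only [BN.ev_cons, BN.ev_nil, mul_one, inv_self (h.tup_sq p2 q2 k')] at b3 ⊢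
      rw [b3]; group

theorem Cod.sat (h : Cod z φ) {p q : G} {ip iq : List ℕ} (hp : CA φ p ip) (hq : CA φ q iq)
    (p2 : p * p = 1) (q2 : q * q = 1) {P : BN.Pres} (hP : P.inv = List.range 14)
    (sp : List (List ℕ)) (hsp : ∀ r ∈ sp, BN.ev (tup φ p q) r = 1)
    (hc : allL P.rels (fun r => or' (anyL sp (BN.eqL r)) (relB ip iq r)) = true) :
    BN.Sat P (tup φ p q) := by
  have out : ∀ k, P.inv.length ≤ k → tup φ p q k = 1 := fun k hk => by
    rw [hP, List.length_range] at hk
    rw [tup, if_neg (by omega), if_neg (by omega), if_neg (by omega)]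
  refine ⟨out, BN.inv_of_lt out fun k hk => ?_, fun r hr => ?_⟩
  · have : P.I k = k := by
      rw [hP, List.length_range] at hk
      rw [BN.Pres.I, hP]
      interval_cases k <;> rfl
    rw [this]; exact h.tup_sq p2 q2 k
  · have := (allL_iff _ _).1 hc r hr
    simp only [or'_eq_true, anyL_iff] at this
    rcases this with ⟨r', h1, h2⟩ | h1
    · rw [BN.eqL_spec h2]; exact hsp r' h1
    · exact h.relB_spec hp hq p2 q2 h1

/-! ### Classes of involutions -/

/-- representatives `j, h, i, hi, f, fj, ef, fg` -/
def reps : List ℕ := [nat_lit 17043537, nat_lit 17043529, nat_lit 17044033, nat_lit 17044041,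
  nat_lit 17043777, nat_lit 17043793, nat_lit 17043781, nat_lit 17060161]

noncomputable def clsTab : ℕ := nat_lit 0x871021f000000000000000000000000000000000008310a4f00000008310a5f000000000000000000000000000000000008310a0f000000000000000000000000000000000000000000000000000000000000000000000000000000000000000000000000000000000000000000000000000000000000000000000000000000000000000000000000000000000000000000000000000000000000000000000000000000000000000831484b829884b0000000819884b00000000000000831484a0000000831480b829880b0000000819880b00000000000000831480a0000000831025f00000000000000000000000000000000000831024f0000000831021f00000000000000000000000000000000000831020f00000000000000000000000000000000000000000000000000000000000000000000000000000000000000000000000000000000000000000000000000000000000000000000000000000000000000000000000000000000000000000000000000000000000000000000000000000000839884b830484b0000000000000000000000000000809884b830484a839880b830480b0000000000000000000000000000809880b830480a00000000000000000000000000000000000000000000000000000000000000000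0000000000000000000000000000000000000000000000000000000000000000000000000000000000000000000000000000000000000000000000000000000000000000000000000000000000000000000000000000000000000000000000000000000000000000000000000000000000000000000000000000000000000000000000000000000000000000000000000000000000000000000000000000000000000000000000000000000000000000000000000000000000000000000000000000000000000000000000000000000000000000000000000000000000000000000000000000000000000000000000000000000000000000000000000000000000000000000000000000000000000000000000000000000000000000000000000000000000000000000000000000000000000000000000000000000000000000000000000000000000000000000000000000000000000000000000000000000000000000000000000000000000000000000000000000000000000000000000000000000000000000000000000000000000000000000000000000000000000000000000000000000000000000000000000000000000000000000000000000000000000000000000000000000000000000000000000000000000000000000000000000000000000000000000000000000000000000000000000000000000000000000000000000000000000000000000000000000000000000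000000000000000000851021f00000008110a4f000000000000000000000000000000000008110a5f00000008110a0f838884b0000000828884b00000000000000811484b0000000811484a838880b0000000828880b00000000000000811480b0000000811480a0000000000000000000000000000000000000000000000000000000000000000000000000000000000000000000000000000000000000000000000000000000000000000000000000000000000000000000000000000000000000000000000000000000000000000000000000000000000000000000000000000000000000000000811025f0000000811024f00000000000000000000000000000000000811021f0000000811020f0000000000000000000000000000818884b810484b808884b810484a0000000000000000000000000000818880b810480b808880b810480a0000000000000000000000000000000000000000000000000000000000000000000000000000000000000000000000000000000000000000860c42e00000000000000860c42c862c40e00000000000000860c40d861c40e00000000000000860c42d860c40e00000000000000860c40c0000000000000000000000000000000000000000000000000000000000000000000000000000000000000000000000000000000000000000000000000000000000000860442f000000000000000000000820461f0000000000000000000008204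63f000000000000000000000820460f0000000000000000000000000000000000000000000000000000000000000000000000000000000000000000000000000000000000000000000000000000000000000860c42f000000000000000000000820c23f000000000000000000000820c21f000000000000000000000820c20f000000000000000000000000000000000000000000000000000000000000000000000000000000000000000000000000000000000000000000000000000000860442e860442c00000000000000862440e860440d00000000000000861440e860442d00000000000000860440e860440c0000000000000000000000000000000000000000000000000000000000000000000000000000000000000000000000000000000000000000000000000000000000000860821f000000000000000000000820862f000000000000000000000820863f000000000000000000000820860f0000000000000000000000000000000000000000000000000000000000000000000000000000000000000000000000000000000000000000839042b00000000000000820c42b819042b00000000000000820c42a839040b00000000000000820c40b819040b00000000000000820c40a0000000000000000000000000000000000000000000000000000000000000000000000000000000000000000000000000000000000000000000000000000000000000820823f00000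0000000000000000820822f000000000000000000000820821f000000000000000000000820820f000000000000000000000000000000000000000000000000000000000000000000000000000000000000000000000000000000000000000000000000000000829042b820442b00000000000000809042b820442a00000000000000829040b820440b00000000000000809040b820440a0000000000000000000000000000000000000000000000000000000000000000000000000000000000000000000000000000000000000000000000000000000000000820c41f000000000000000000000820c43f000000000000000000000820c42f000000000000000000000820c40f0000000000000000000000000000000000000000000000000000000000000000000000000000000000000000000000000000000000000000000000000000000000000820443f000000000000000000000820441f000000000000000000000820442f000000000000000000000820440f0000000000000000000000000000000000000000000000000000000000000000000000000000000000000000000000000000000000000000822c42e00000000000000820c42d822c40e00000000000000820c40d820c42e00000000000000820c42c820c40e00000000000000820c40c0000000000000000000000000000000000000000000000000000000000000000000000000000000000000000000000000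00000000000000000000000000000822442e820442d00000000000000822440e820440d00000000000000820442e820442c00000000000000820440e820440c0000000871021c0000000873020e0000000871021e0000000871020d0000000871021d0000000871020e0000000873021e0000000871020c0000000860821e0000000860821c0000000862820e0000000860820d0000000861820e0000000860821d0000000860820e0000000860820c0000000851021e0000000853020e0000000851021c0000000851020d0000000851820e0000000851020e0000000851021d0000000851020c0000000831021b0000000820821b0000000811021b0000000820821a0000000831020b0000000820820b0000000811020b0000000820820a0000000831021d0000000833020e0000000833021e0000000831020d0000000831021c0000000831020e0000000831021e0000000831020c0000000822821e0000000820821d0000000822820e0000000820820d0000000820821e0000000820821c0000000820820e0000000820820c0000000813021e0000000813020e0000000811021d0000000811020d0000000811021e0000000811020e0000000811021c0000000811020c8790409871020986904098608209859040985102098490409820820883904098310209829040982082098190409811020980904090000000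

/-- the number of the class of an upper triangular involution -/
noncomputable def cid (x : ℕ) : ℕ := Nat.land (dig 28 268435455 clsTab (idxT x)) 7

theorem cls_chk : allT (fun x => or' (not' (Nat.beq (mu x x) o5)) (or' (Nat.beq x o5)
    (force (Nat.shiftRight (dig 28 268435455 clsTab (idxT x)) 3) fun y =>
      and' (vB y) (Nat.beq (mu y x) (mu (BN.nth 0 reps (cid x)) y))))) = true := by decide +kernel

theorem cid_lt (x : ℕ) : cid x < 8 := Nat.and_lt_two_pow (n := 3) _ (by decide)

theorem V_rep {r : ℕ} (hr : r < 8) : V (BN.nth 0 reps r) :=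
  V_of_vB ((allLT_iff 8 fun r => vB (BN.nth 0 reps r)).1 (by decide +kernel) r hr)

theorem Cod.cls (h : Cod z φ) {x : ℕ} (hx : V x) (ht : isT x = true) (h2 : mu x x = o5) (h1 : x ≠ o5) :
    ∃ y, V y ∧ φ y * φ x * (φ y)⁻¹ = φ (BN.nth 0 reps (cid x)) := by
  have := allT_spec cls_chk hx ht
  simp only [or'_eq_true, not'_eq_true, beq_iff, h2, not_true, false_or, h1, force_eq,
    and'_eq_true] at this
  exact ⟨_, V_of_vB this.1, h.conj_of hx (V_of_vB this.1) (V_rep (cid_lt x)) this.2⟩

/-- every involution of a subgroup in which `T` has odd index is conjugate to a representative -/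
theorem Cod.inv_conj [Finite G] (h : Cod z φ) {M : Subgroup G} (hM : ∀ g, Commute g z → g ∈ M)
    (hi : ¬ 2 ∣ h.T.relIndex M) {u : G} (hu : u ∈ M) (h2 : u * u = 1) (h1 : u ≠ 1) :
    ∃ c ∈ M, ∃ r < 8, c * u * c⁻¹ = φ (BN.nth 0 reps r) := by
  have hP : IsPGroup 2 (Subgroup.zpowers u) := by
    rintro ⟨_, n, rfl⟩
    refine ⟨1, Subtype.ext ?_⟩
    change (u ^ n) ^ 2 ^ 1 = 1
    rw [← zpow_natCast, ← zpow_mul, mul_comm, zpow_mul, zpow_natCast, pow_one, pow_two, h2, one_zpow]
  obtain ⟨c, hc, h3⟩ := conj_into h.T_p hi hP ((Subgroup.zpowers_le).2 hu)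
  obtain ⟨x, hx, ht, e⟩ := h3 u (Subgroup.mem_zpowers u)
  obtain ⟨y, hy, e2⟩ := h.cls hx ht (h.inj (hx.mu hx) V_o5 (by
    rw [h.map_mu hx hx, e, h.one, show c * u * c⁻¹ * (c * u * c⁻¹) = c * (u * u) * c⁻¹ by group, h2]
    group)) (fun e' => h1 (by rw [e', h.one, eq_comm, conj_eq_one_iff] at e; exact e))
  exact ⟨φ y * c, M.mul_mem (hM _ (h.comm hy)) hc, _, cid_lt x, by rw [← e2, e]; group⟩

end Cfsg.Agent.He5
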