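import Cfsg.Agent.He5.Gen1

/-! The fourteen letters generate the group, when both normal subgroups `2 ^ 4` are fused. -/

set_option autoImplicit false

namespace Cfsg.Agent.He5

open Cfsg.Agent.Comp

variable {G : Type*} [Group G] {z : G} {φ : ℕ → G}

def candLL : List ℕ :=
  [nat_lit 17567811, nat_lit 17043665, nat_lit 17051729, nat_lit 17043781, nat_lit 17060161,
   nat_lit 17567815, nat_lit 17584195, nat_lit 17567827, nat_lit 17568603, nat_lit 17043909,
   nat_lit 17043661, nat_lit 17044165, nat_lit 17043669, nat_lit 17043921, nat_lit 17043673,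
   nat_lit 17044177, nat_lit 17068353, nat_lit 17051985, nat_lit 17068105, nat_lit 17068609,
   nat_lit 17068113, nat_lit 17051737, nat_lit 17052241, nat_lit 17568067, nat_lit 17043789,
   nat_lit 17044293, nat_lit 17043797, nat_lit 17060169, nat_lit 17060673, nat_lit 17060177,
   nat_lit 17043801, nat_lit 17044305, nat_lit 17593311, nat_lit 17576399, nat_lit 17592519,
   nat_lit 17576135, nat_lit 17567831, nat_lit 17584211, nat_lit 17568347, nat_lit 17568607,
   nat_lit 17584987, nat_lit 17568587, nat_lit 17568083, nat_lit 17568331, nat_lit 17593283,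
   nat_lit 17576387, nat_lit 17043929, nat_lit 17044433, nat_lit 17044185, nat_lit 17592515,
   nat_lit 17051993, nat_lit 17052497, nat_lit 17052249, nat_lit 17576131, nat_lit 17568071,
   nat_lit 17584451, nat_lit 17044301, nat_lit 17043805, nat_lit 17044309, nat_lit 17060681,
   nat_lit 17060185, nat_lit 17060689, nat_lit 17593307, nat_lit 17593047, nat_lit 17593303,
   nat_lit 17592783, nat_lit 17593295, nat_lit 17593287, nat_lit 17576395, nat_lit 17576391,
   nat_lit 17576927, nat_lit 17576415, nat_lit 17044429, nat_lit 17043933, nat_lit 17576663,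
   nat_lit 17576407, nat_lit 17044189, nat_lit 17044437, nat_lit 17592527, nat_lit 17592535,
   nat_lit 17592543, nat_lit 17584207, nat_lit 17052505, nat_lit 17576143, nat_lit 17576151,
   nat_lit 17576139, nat_lit 17584479, nat_lit 17584223, nat_lit 17584711, nat_lit 17568351,
   nat_lit 17584463, nat_lit 17584727, nat_lit 17584731, nat_lit 17592539, nat_lit 17568591,
   nat_lit 17044317, nat_lit 17568087, nat_lit 17568335, nat_lit 17584971, nat_lit 17060697,
   nat_lit 17044441, nat_lit 17584467, nat_lit 17584715, nat_lit 17576159, nat_lit 17593035,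
   nat_lit 17593291, nat_lit 17592787, nat_lit 17593299, nat_lit 17576915, nat_lit 17576403,
   nat_lit 17576667, nat_lit 17576411, nat_lit 17593027, nat_lit 17592771, nat_lit 17068873,
   nat_lit 17068881, nat_lit 17576899, nat_lit 17576643, nat_lit 17592779, nat_lit 17592523,
   nat_lit 17593043, nat_lit 17592531, nat_lit 17592775, nat_lit 17593031, nat_lit 17068377,
   nat_lit 17068633, nat_lit 17576659, nat_lit 17576147, nat_lit 17576647, nat_lit 17576911,
   nat_lit 17584983, nat_lit 17576655, nat_lit 17576903, nat_lit 17584967, nat_lit 17576155,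
   nat_lit 17592799, nat_lit 17593055, nat_lit 17593039, nat_lit 17592791, nat_lit 17576923,
   nat_lit 17576919, nat_lit 17576671, nat_lit 17593051, nat_lit 17592795, nat_lit 17576651,
   nat_lit 17576907]

def waLL : List ℕ :=
  [nat_lit 17043529, nat_lit 17043525]

def wbLL : List (ℕ × ℕ) :=
  [(nat_lit 17584967, nat_lit 17568067), (nat_lit 17568331, nat_lit 17060437),
   (nat_lit 17584715, nat_lit 17567815), (nat_lit 17568071, nat_lit 17584467)]

theorem lvlLL : lvl 23 candLL waLL wbLL 3 (spc []) = true := by decide +kernel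

theorem Cod.top_LL [Finite G] (h : Cod z φ) {p q : G} (hp : CA φ p pL) (hq : CA φ q qL) :
    BN.gen (tup φ p q) = ⊤ :=
  (h.cls_of hp hq (dm := 23) (ns := [lt]) (fun s hs => List.mem_singleton.1 hs ▸ h.not_t)
    [(zc, []), (zc, [13]), (zc, [12]), (lt, []), (zc, [13, 12]), (lt, [12]), (lt, [13, 11]),
     (lt, [12, 10])]
    (by decide +kernel)).top (by decide +kernel) (by decide +kernel) (by decide +kernel) lvlLL

def candLS : List ℕ :=
  [nat_lit 17567811, nat_lit 17051729, nat_lit 17060161, nat_lit 17567815, nat_lit 17584195,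
   nat_lit 17567827, nat_lit 17568603, nat_lit 17068353, nat_lit 17051985, nat_lit 17068105,
   nat_lit 17068609, nat_lit 17068113, nat_lit 17051737, nat_lit 17052241, nat_lit 17568067,
   nat_lit 17060169, nat_lit 17060673, nat_lit 17060177, nat_lit 17043801, nat_lit 17044305,
   nat_lit 17593311, nat_lit 17576399, nat_lit 17592519, nat_lit 17576135, nat_lit 17567831,
   nat_lit 17584211, nat_lit 17568347, nat_lit 17568607, nat_lit 17584987, nat_lit 17568587,
   nat_lit 17568083, nat_lit 17568331, nat_lit 17593283, nat_lit 17576387, nat_lit 17592515,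
   nat_lit 17051993, nat_lit 17052497, nat_lit 17052249, nat_lit 17576131, nat_lit 17568071,
   nat_lit 17584451, nat_lit 17060681, nat_lit 17060185, nat_lit 17060689, nat_lit 17593307,
   nat_lit 17593047, nat_lit 17593303, nat_lit 17592783, nat_lit 17593295, nat_lit 17593287,
   nat_lit 17576395, nat_lit 17576391, nat_lit 17576927, nat_lit 17576415, nat_lit 17576663,
   nat_lit 17576407, nat_lit 17592527, nat_lit 17592535, nat_lit 17592543, nat_lit 17584207,
   nat_lit 17052505, nat_lit 17576143, nat_lit 17576151, nat_lit 17576139, nat_lit 17584479,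
   nat_lit 17584223, nat_lit 17584711, nat_lit 17568351, nat_lit 17584463, nat_lit 17584727,
   nat_lit 17584731, nat_lit 17592539, nat_lit 17568591, nat_lit 17568087, nat_lit 17568335,
   nat_lit 17584971, nat_lit 17060697, nat_lit 17584467, nat_lit 17584715, nat_lit 17576159,
   nat_lit 17593035, nat_lit 17593291, nat_lit 17592787, nat_lit 17593299, nat_lit 17576915,
   nat_lit 17576403, nat_lit 17576667, nat_lit 17576411, nat_lit 17593027, nat_lit 17592771,
   nat_lit 17068873, nat_lit 17068881, nat_lit 17576899, nat_lit 17576643, nat_lit 17592779,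
   nat_lit 17592523, nat_lit 17593043, nat_lit 17592531, nat_lit 17592775, nat_lit 17593031,
   nat_lit 17068377, nat_lit 17068633, nat_lit 17576659, nat_lit 17576147, nat_lit 17576647,
   nat_lit 17576911, nat_lit 17584983, nat_lit 17576655, nat_lit 17576903, nat_lit 17584967,
   nat_lit 17576155, nat_lit 17592799, nat_lit 17593055, nat_lit 17593039, nat_lit 17592791,
   nat_lit 17576923, nat_lit 17576919, nat_lit 17576671, nat_lit 17593051, nat_lit 17592795,
   nat_lit 17576651, nat_lit 17576907]

def waLS : List ℕ :=
  [nat_lit 17043529, nat_lit 17051713]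

def wbLS : List (ℕ × ℕ) :=
  [(nat_lit 17584967, nat_lit 17568067), (nat_lit 17568331, nat_lit 17060437),
   (nat_lit 17584715, nat_lit 17567815), (nat_lit 17568071, nat_lit 17584467)]

theorem lvlLS : lvl 87 candLS waLS wbLS 3 (spc []) = true := by decide +kernel

theorem Cod.top_LS [Finite G] (h : Cod z φ) {p q : G} (hp : CA φ p pL) (hq : CA φ q qS) :
    BN.gen (tup φ p q) = ⊤ :=
  (h.cls_of hp hq (dm := 87) (ns := [lt]) (fun s hs => List.mem_singleton.1 hs ▸ h.not_t)
    [(zc, []), (zc, [13]), (zc, [12]), (lt, []), (zc, [13, 12]), (lt, [12]),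
     (zc, [3, 0, 13, 11, 13]), (lt, [12, 10])]
    (by decide +kernel)).top (by decide +kernel) (by decide +kernel) (by decide +kernel) lvlLS

def candSS : List ℕ :=
  [nat_lit 17567811, nat_lit 17567815, nat_lit 17584195, nat_lit 17567827, nat_lit 17568603,
   nat_lit 17568067, nat_lit 17043801, nat_lit 17044305, nat_lit 17593311, nat_lit 17576399,
   nat_lit 17592519, nat_lit 17576135, nat_lit 17567831, nat_lit 17584211, nat_lit 17568347,
   nat_lit 17568607, nat_lit 17584987, nat_lit 17568587, nat_lit 17568083, nat_lit 17568331,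
   nat_lit 17593283, nat_lit 17576387, nat_lit 17592515, nat_lit 17576131, nat_lit 17568071,
   nat_lit 17584451, nat_lit 17593307, nat_lit 17593047, nat_lit 17593303, nat_lit 17592783,
   nat_lit 17593295, nat_lit 17593287, nat_lit 17576395, nat_lit 17576391, nat_lit 17576927,
   nat_lit 17576415, nat_lit 17576663, nat_lit 17576407, nat_lit 17592527, nat_lit 17592535,
   nat_lit 17592543, nat_lit 17584207, nat_lit 17576143, nat_lit 17576151, nat_lit 17576139,
   nat_lit 17584479, nat_lit 17584223, nat_lit 17584711, nat_lit 17568351, nat_lit 17584463,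
   nat_lit 17584727, nat_lit 17584731, nat_lit 17592539, nat_lit 17568591, nat_lit 17568087,
   nat_lit 17568335, nat_lit 17584971, nat_lit 17584467, nat_lit 17584715, nat_lit 17576159,
   nat_lit 17593035, nat_lit 17593291, nat_lit 17592787, nat_lit 17593299, nat_lit 17576915,
   nat_lit 17576403, nat_lit 17576667, nat_lit 17576411, nat_lit 17593027, nat_lit 17592771,
   nat_lit 17576899, nat_lit 17576643, nat_lit 17592779, nat_lit 17592523, nat_lit 17593043,
   nat_lit 17592531, nat_lit 17592775, nat_lit 17593031, nat_lit 17576659, nat_lit 17576147,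
   nat_lit 17576647, nat_lit 17576911, nat_lit 17584983, nat_lit 17576655, nat_lit 17576903,
   nat_lit 17584967, nat_lit 17576155, nat_lit 17592799, nat_lit 17593055, nat_lit 17593039,
   nat_lit 17592791, nat_lit 17576923, nat_lit 17576919, nat_lit 17576671, nat_lit 17593051,
   nat_lit 17592795, nat_lit 17576651, nat_lit 17576907]

def waSS : List ℕ :=
  [nat_lit 17043529]

def wbSS : List (ℕ × ℕ) :=
  [(nat_lit 17044053, nat_lit 17060437), (nat_lit 17043525, nat_lit 17059933),
   (nat_lit 17059913, nat_lit 17059909), (nat_lit 17044061, nat_lit 17060441)]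

theorem lvlSS : lvl 215 candSS waSS wbSS 3 (spc []) = true := by decide +kernel

theorem Cod.top_SS [Finite G] (h : Cod z φ) {p q : G} (hp : CA φ p pS) (hq : CA φ q qS) :
    BN.gen (tup φ p q) = ⊤ :=
  (h.cls_of hp hq (dm := 215) (ns := [lt]) (fun s hs => List.mem_singleton.1 hs ▸ h.not_t)
    [(zc, []), (zc, [13]), (zc, [12]), (lt, []), (zc, [13, 12]), (lt, [12]),
     (zc, [3, 0, 13, 11, 13]), (zc, [1, 0, 12, 10, 12])]
    (by decide +kernel)).top (by decide +kernel) (by decide +kernel) (by decide +kernel) lvlSS

end Cfsg.Agent.He5
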