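import Cfsg.Agent.He5.IdBNet

set_option autoImplicit false
set_option Elab.async false
set_option maxRecDepth 100000

namespace Cfsg.Agent.He5.Id.B

open Cfsg.Agent.Comp.BN

theorem sat_inv_0 : invC Cfsg.Agent.He5.Id.B.act Cfsg.Agent.He5.PSS.I 32768 15 Cfsg.Agent.He5.PSS.inv.length [0, 1, 2, 3, 4, 5, 6, 7, 8, 9, 10, 11, 12, 13, 14] = true :=
  by decide +kernel

theorem sat_inv : ∀ k, Cfsg.Agent.He5.Id.B.π (Cfsg.Agent.He5.PSS.I k) * Cfsg.Agent.He5.Id.B.π k = 1 :=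
  inv_of_checks Cfsg.Agent.He5.Id.B.spec (K := 15) (by decide) Cfsg.Agent.He5.Id.B.out [[0, 1, 2, 3, 4, 5, 6, 7, 8, 9, 10, 11, 12, 13, 14]] (by decide) ⟨sat_inv_0, trivial⟩

theorem sat_rel_0_0 : relsC Cfsg.Agent.He5.Id.B.act Cfsg.Agent.He5.PSS.I 32768 15 [[0, 1, 0, 1, 4], [0, 2, 0, 2], [0, 3, 0, 3], [0, 4, 0, 4], [0, 5, 0, 5, 7], [0, 6, 0, 6], [0, 7, 0, 7], [0, 8, 0, 8, 9], [0, 9, 0, 9], [1, 2, 1, 2, 5], [1, 3, 1, 3], [1, 4, 1, 4], [1, 5, 1, 5], [1, 6, 1, 6, 8], [1, 7, 1, 7], [1, 8, 1, 8], [1, 9, 1, 9], [2, 3, 2, 3, 6], [2, 4, 2, 4, 7], [2, 5, 2, 5], [2, 6, 2, 6], [2, 7, 2, 7], [2, 8, 2, 8], [2, 9, 2, 9], [3, 4, 3, 4], [3, 5, 3, 5, 8], [3, 6, 3, 6], [3, 7, 3, 7, 9], [3, 8, 3, 8], [3, 9, 3, 9], [4, 5, 4, 5], [4, 6, 4, 6, 9],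 [4, 7, 4, 7], [4, 8, 4, 8], [4, 9, 4, 9], [5, 6, 5, 6], [5, 7, 5, 7], [5, 8, 5, 8], [5, 9, 5, 9], [6, 7, 6, 7], [6, 8, 6, 8], [6, 9, 6, 9], [7, 8, 7, 8], [7, 9, 7, 9], [8, 9, 8, 9], [10, 1, 10, 1, 10, 1], [10, 0, 10, 4], [10, 2, 10, 5], [10, 3, 10, 3], [10, 6, 10, 8], [10, 7, 10, 7], [10, 9, 10, 9], [11, 2, 11, 2, 11, 2], [11, 0, 11, 0], [11, 1, 11, 5], [11, 3, 11, 6], [11, 4, 11, 7], [11, 8, 11, 8], [11, 9, 11, 9], [10, 11, 10, 11, 10, 11], [12, 0, 12, 0, 12, 0], [12, 1, 12, 4], [12, 2, 12, 9, 8, 2], [12, 3, 12, 0, 8, 3, 1, 0], [12, 5, 12, 7], [12, 6, 12, 0, 8, 6, 5, 0], [12, 8, 12, 9], [12, 11, 12, 11, 9, 8], [13, 3, 13, 3, 13, 3], [13, 0, 13, 9, 7, 6, 2, 0], [13, 1, 13, 9, 7, 1], [13, 2, 13, 6], [13, 4, 13, 0, 8, 5, 4, 0],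 [13, 5, 13, 8], [13, 7, 13, 9], [13, 10, 13, 10, 9, 7], [12, 13, 12, 13, 2, 4, 6, 1], [12, 4, 5, 7, 13, 9, 11, 4, 5, 7, 13, 9, 11, 3, 4, 9, 4, 5, 7, 13, 9, 11, 3, 4, 9, 4, 5, 7, 13, 9, 11, 3, 4, 9, 2, 9, 0], [13, 5, 6, 8, 12, 9, 10, 5, 6, 8, 12, 9, 10, 0, 6, 9, 5, 6, 8, 12, 9, 10, 0, 6, 9, 5, 6, 8, 12, 9, 10, 0, 6, 9, 1, 9, 3]] [0, 1, 2, 3, 4] = true :=
  by decide +kernel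

theorem sat_rel_0_1 : relsC Cfsg.Agent.He5.Id.B.act Cfsg.Agent.He5.PSS.I 32768 15 [[0, 1, 0, 1, 4], [0, 2, 0, 2], [0, 3, 0, 3], [0, 4, 0, 4], [0, 5, 0, 5, 7], [0, 6, 0, 6], [0, 7, 0, 7], [0, 8, 0, 8, 9], [0, 9, 0, 9], [1, 2, 1, 2, 5], [1, 3, 1, 3], [1, 4, 1, 4], [1, 5, 1, 5], [1, 6, 1, 6, 8], [1, 7, 1, 7], [1, 8, 1, 8], [1, 9, 1, 9], [2, 3, 2, 3, 6], [2, 4, 2, 4, 7], [2, 5, 2, 5], [2, 6, 2, 6], [2, 7, 2, 7], [2, 8, 2, 8], [2, 9, 2, 9], [3, 4, 3, 4], [3, 5, 3, 5, 8], [3, 6, 3, 6], [3, 7, 3, 7, 9], [3, 8, 3, 8], [3, 9, 3, 9], [4, 5, 4, 5], [4, 6, 4, 6, 9], [4, 7, 4, 7], [4, 8, 4, 8], [4, 9, 4, 9], [5, 6, 5, 6], [5, 7, 5, 7], [5, 8, 5, 8], [5, 9, 5, 9], [6, 7, 6, 7], [6, 8, 6, 8], [6, 9, 6, 9], [7, 8, 7, 8], [7, 9, 7, 9], [8,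 9, 8, 9], [10, 1, 10, 1, 10, 1], [10, 0, 10, 4], [10, 2, 10, 5], [10, 3, 10, 3], [10, 6, 10, 8], [10, 7, 10, 7], [10, 9, 10, 9], [11, 2, 11, 2, 11, 2], [11, 0, 11, 0], [11, 1, 11, 5], [11, 3, 11, 6], [11, 4, 11, 7], [11, 8, 11, 8], [11, 9, 11, 9], [10, 11, 10, 11, 10, 11], [12, 0, 12, 0, 12, 0], [12, 1, 12, 4], [12, 2, 12, 9, 8, 2], [12, 3, 12, 0, 8, 3, 1, 0], [12, 5, 12, 7], [12, 6, 12, 0, 8, 6, 5, 0], [12, 8, 12, 9], [12, 11, 12, 11, 9, 8], [13, 3, 13, 3, 13, 3], [13, 0, 13, 9, 7, 6, 2, 0], [13, 1, 13, 9, 7, 1], [13, 2, 13, 6], [13, 4, 13, 0, 8, 5, 4, 0], [13, 5, 13, 8], [13, 7, 13, 9], [13, 10, 13, 10, 9, 7], [12, 13, 12, 13, 2, 4, 6, 1], [12, 4, 5, 7, 13, 9, 11, 4, 5, 7, 13, 9, 11, 3, 4, 9, 4, 5, 7, 13, 9, 11, 3, 4, 9, 4,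 5, 7, 13, 9, 11, 3, 4, 9, 2, 9, 0], [13, 5, 6, 8, 12, 9, 10, 5, 6, 8, 12, 9, 10, 0, 6, 9, 5, 6, 8, 12, 9, 10, 0, 6, 9, 5, 6, 8, 12, 9, 10, 0, 6, 9, 1, 9, 3]] [5, 6, 7, 8, 9] = true :=
  by decide +kernel

theorem sat_rel_0_2 : relsC Cfsg.Agent.He5.Id.B.act Cfsg.Agent.He5.PSS.I 32768 15 [[0, 1, 0, 1, 4], [0, 2, 0, 2], [0, 3, 0, 3], [0, 4, 0, 4], [0, 5, 0, 5, 7], [0, 6, 0, 6], [0, 7, 0, 7], [0, 8, 0, 8, 9], [0, 9, 0, 9], [1, 2, 1, 2, 5], [1, 3, 1, 3], [1, 4, 1, 4], [1, 5, 1, 5], [1, 6, 1, 6, 8], [1, 7, 1, 7], [1, 8, 1, 8], [1, 9, 1, 9], [2, 3, 2, 3, 6], [2, 4, 2, 4, 7], [2, 5, 2, 5], [2, 6, 2, 6], [2, 7, 2, 7], [2, 8, 2, 8], [2, 9, 2, 9], [3, 4, 3, 4], [3, 5, 3, 5, 8], [3, 6, 3, 6], [3, 7, 3, 7, 9], [3, 8, 3, 8], [3, 9, 3, 9],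 [4, 5, 4, 5], [4, 6, 4, 6, 9], [4, 7, 4, 7], [4, 8, 4, 8], [4, 9, 4, 9], [5, 6, 5, 6], [5, 7, 5, 7], [5, 8, 5, 8], [5, 9, 5, 9], [6, 7, 6, 7], [6, 8, 6, 8], [6, 9, 6, 9], [7, 8, 7, 8], [7, 9, 7, 9], [8, 9, 8, 9], [10, 1, 10, 1, 10, 1], [10, 0, 10, 4], [10, 2, 10, 5], [10, 3, 10, 3], [10, 6, 10, 8], [10, 7, 10, 7], [10, 9, 10, 9], [11, 2, 11, 2, 11, 2], [11, 0, 11, 0], [11, 1, 11, 5], [11, 3, 11, 6], [11, 4, 11, 7], [11, 8, 11, 8], [11, 9, 11, 9], [10, 11, 10, 11, 10, 11], [12, 0, 12, 0, 12, 0], [12, 1, 12, 4], [12, 2, 12, 9, 8, 2], [12, 3, 12, 0, 8, 3, 1, 0], [12, 5, 12, 7], [12, 6, 12, 0, 8, 6, 5, 0], [12, 8, 12, 9], [12, 11, 12, 11, 9, 8], [13, 3, 13, 3, 13, 3], [13, 0, 13, 9, 7, 6, 2, 0], [13, 1, 13, 9, 7, 1], [13, 2, 13,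 6], [13, 4, 13, 0, 8, 5, 4, 0], [13, 5, 13, 8], [13, 7, 13, 9], [13, 10, 13, 10, 9, 7], [12, 13, 12, 13, 2, 4, 6, 1], [12, 4, 5, 7, 13, 9, 11, 4, 5, 7, 13, 9, 11, 3, 4, 9, 4, 5, 7, 13, 9, 11, 3, 4, 9, 4, 5, 7, 13, 9, 11, 3, 4, 9, 2, 9, 0], [13, 5, 6, 8, 12, 9, 10, 5, 6, 8, 12, 9, 10, 0, 6, 9, 5, 6, 8, 12, 9, 10, 0, 6, 9, 5, 6, 8, 12, 9, 10, 0, 6, 9, 1, 9, 3]] [10, 11, 12, 13, 14] = true :=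
  by decide +kernel

theorem sat_rel_0 : ∀ r ∈ ([[0, 1, 0, 1, 4], [0, 2, 0, 2], [0, 3, 0, 3], [0, 4, 0, 4], [0, 5, 0, 5, 7], [0, 6, 0, 6], [0, 7, 0, 7], [0, 8, 0, 8, 9], [0, 9, 0, 9], [1, 2, 1, 2, 5], [1, 3, 1, 3], [1, 4, 1, 4], [1, 5, 1, 5], [1, 6, 1, 6, 8], [1, 7, 1, 7], [1, 8, 1, 8], [1, 9, 1, 9], [2, 3, 2, 3, 6], [2, 4, 2, 4, 7], [2, 5, 2, 5], [2, 6, 2, 6], [2, 7, 2, 7], [2, 8, 2, 8], [2, 9, 2, 9], [3, 4, 3, 4], [3, 5, 3, 5, 8], [3, 6, 3, 6], [3, 7, 3, 7, 9], [3, 8, 3, 8], [3, 9, 3, 9], [4, 5, 4, 5], [4, 6, 4, 6, 9], [4, 7, 4, 7], [4, 8, 4, 8], [4, 9, 4, 9], [5, 6, 5, 6], [5, 7, 5, 7], [5, 8, 5, 8], [5, 9, 5, 9], [6, 7, 6, 7], [6, 8, 6, 8], [6, 9, 6, 9], [7, 8, 7, 8], [7, 9, 7, 9], [8, 9, 8, 9], [10, 1, 10, 1, 10, 1], [10,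 0, 10, 4], [10, 2, 10, 5], [10, 3, 10, 3], [10, 6, 10, 8], [10, 7, 10, 7], [10, 9, 10, 9], [11, 2, 11, 2, 11, 2], [11, 0, 11, 0], [11, 1, 11, 5], [11, 3, 11, 6], [11, 4, 11, 7], [11, 8, 11, 8], [11, 9, 11, 9], [10, 11, 10, 11, 10, 11], [12, 0, 12, 0, 12, 0], [12, 1, 12, 4], [12, 2, 12, 9, 8, 2], [12, 3, 12, 0, 8, 3, 1, 0], [12, 5, 12, 7], [12, 6, 12, 0, 8, 6, 5, 0], [12, 8, 12, 9], [12, 11, 12, 11, 9, 8], [13, 3, 13, 3, 13, 3], [13, 0, 13, 9, 7, 6, 2, 0], [13, 1, 13, 9, 7, 1], [13, 2, 13, 6], [13, 4, 13, 0, 8, 5, 4, 0], [13, 5, 13, 8], [13, 7, 13, 9], [13, 10, 13, 10, 9, 7], [12, 13, 12, 13, 2, 4, 6, 1], [12, 4, 5, 7, 13, 9, 11, 4, 5, 7, 13, 9, 11, 3, 4, 9, 4, 5, 7, 13, 9, 11, 3, 4, 9, 4, 5, 7, 13, 9, 11, 3, 4, 9, 2, 9, 0],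 [13, 5, 6, 8, 12, 9, 10, 5, 6, 8, 12, 9, 10, 0, 6, 9, 5, 6, 8, 12, 9, 10, 0, 6, 9, 5, 6, 8, 12, 9, 10, 0, 6, 9, 1, 9, 3]] : List (List ℕ)), ev Cfsg.Agent.He5.Id.B.π r = 1 :=
  rels_of_checks Cfsg.Agent.He5.Id.B.spec (K := 15) (by decide) sat_inv _ [[0, 1, 2, 3, 4], [5, 6, 7, 8, 9], [10, 11, 12, 13, 14]] (by decide) ⟨sat_rel_0_0, sat_rel_0_1, sat_rel_0_2, trivial⟩

theorem sat_rel : ∀ r ∈ ([[0, 1, 0, 1, 4], [0, 2, 0, 2], [0, 3, 0, 3], [0, 4, 0, 4], [0, 5, 0, 5, 7], [0, 6, 0, 6], [0, 7, 0, 7], [0, 8, 0, 8, 9], [0, 9, 0, 9], [1, 2, 1, 2, 5], [1, 3, 1, 3], [1, 4, 1, 4], [1, 5, 1, 5], [1, 6, 1, 6, 8], [1, 7, 1, 7], [1, 8, 1, 8], [1, 9, 1, 9], [2, 3, 2, 3, 6], [2, 4, 2, 4, 7], [2, 5, 2, 5], [2, 6, 2, 6], [2, 7, 2, 7], [2, 8, 2, 8],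 [2, 9, 2, 9], [3, 4, 3, 4], [3, 5, 3, 5, 8], [3, 6, 3, 6], [3, 7, 3, 7, 9], [3, 8, 3, 8], [3, 9, 3, 9], [4, 5, 4, 5], [4, 6, 4, 6, 9], [4, 7, 4, 7], [4, 8, 4, 8], [4, 9, 4, 9], [5, 6, 5, 6], [5, 7, 5, 7], [5, 8, 5, 8], [5, 9, 5, 9], [6, 7, 6, 7], [6, 8, 6, 8], [6, 9, 6, 9], [7, 8, 7, 8], [7, 9, 7, 9], [8, 9, 8, 9], [10, 1, 10, 1, 10, 1], [10, 0, 10, 4], [10, 2, 10, 5], [10, 3, 10, 3], [10, 6, 10, 8], [10, 7, 10, 7], [10, 9, 10, 9], [11, 2, 11, 2, 11, 2], [11, 0, 11, 0], [11, 1, 11, 5], [11, 3, 11, 6], [11, 4, 11, 7], [11, 8, 11, 8], [11, 9, 11, 9], [10, 11, 10, 11, 10, 11], [12, 0, 12, 0, 12, 0], [12, 1, 12, 4], [12, 2, 12, 9, 8, 2], [12, 3, 12, 0, 8, 3, 1, 0], [12, 5, 12, 7], [12, 6, 12, 0, 8, 6, 5, 0], [12, 8, 12, 9], [12,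 11, 12, 11, 9, 8], [13, 3, 13, 3, 13, 3], [13, 0, 13, 9, 7, 6, 2, 0], [13, 1, 13, 9, 7, 1], [13, 2, 13, 6], [13, 4, 13, 0, 8, 5, 4, 0], [13, 5, 13, 8], [13, 7, 13, 9], [13, 10, 13, 10, 9, 7], [12, 13, 12, 13, 2, 4, 6, 1], [12, 4, 5, 7, 13, 9, 11, 4, 5, 7, 13, 9, 11, 3, 4, 9, 4, 5, 7, 13, 9, 11, 3, 4, 9, 4, 5, 7, 13, 9, 11, 3, 4, 9, 2, 9, 0], [13, 5, 6, 8, 12, 9, 10, 5, 6, 8, 12, 9, 10, 0, 6, 9, 5, 6, 8, 12, 9, 10, 0, 6, 9, 5, 6, 8, 12, 9, 10, 0, 6, 9, 1, 9, 3]] : List (List ℕ)), ev Cfsg.Agent.He5.Id.B.π r = 1 :=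
  rels_join [[[0, 1, 0, 1, 4], [0, 2, 0, 2], [0, 3, 0, 3], [0, 4, 0, 4], [0, 5, 0, 5, 7], [0, 6, 0, 6], [0, 7, 0, 7], [0, 8, 0, 8, 9], [0, 9, 0, 9], [1, 2, 1, 2, 5], [1, 3, 1, 3], [1, 4, 1, 4], [1, 5, 1, 5], [1, 6, 1, 6, 8], [1, 7, 1, 7], [1, 8, 1, 8], [1, 9, 1, 9], [2, 3, 2, 3, 6], [2, 4, 2, 4, 7], [2, 5, 2, 5], [2, 6, 2, 6], [2, 7, 2, 7], [2, 8, 2, 8], [2, 9, 2, 9], [3, 4, 3, 4], [3, 5, 3, 5, 8], [3, 6, 3, 6], [3, 7, 3, 7, 9], [3, 8, 3, 8], [3, 9, 3, 9], [4, 5, 4, 5], [4, 6, 4, 6, 9], [4, 7, 4, 7], [4, 8, 4, 8], [4, 9, 4, 9], [5, 6, 5, 6], [5, 7, 5, 7], [5, 8, 5, 8], [5, 9, 5, 9], [6, 7, 6, 7], [6, 8, 6, 8], [6, 9, 6, 9], [7, 8, 7, 8], [7, 9, 7, 9], [8, 9, 8, 9], [10, 1, 10, 1, 10, 1], [10, 0, 10, 4], [10, 2, 10, 5], [10,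 3, 10, 3], [10, 6, 10, 8], [10, 7, 10, 7], [10, 9, 10, 9], [11, 2, 11, 2, 11, 2], [11, 0, 11, 0], [11, 1, 11, 5], [11, 3, 11, 6], [11, 4, 11, 7], [11, 8, 11, 8], [11, 9, 11, 9], [10, 11, 10, 11, 10, 11], [12, 0, 12, 0, 12, 0], [12, 1, 12, 4], [12, 2, 12, 9, 8, 2], [12, 3, 12, 0, 8, 3, 1, 0], [12, 5, 12, 7], [12, 6, 12, 0, 8, 6, 5, 0], [12, 8, 12, 9], [12, 11, 12, 11, 9, 8], [13, 3, 13, 3, 13, 3], [13, 0, 13, 9, 7, 6, 2, 0], [13, 1, 13, 9, 7, 1], [13, 2, 13, 6], [13, 4, 13, 0, 8, 5, 4, 0], [13, 5, 13, 8], [13, 7, 13, 9], [13, 10, 13, 10, 9, 7], [12, 13, 12, 13, 2, 4, 6, 1], [12, 4, 5, 7, 13, 9, 11, 4, 5, 7, 13, 9, 11, 3, 4, 9, 4, 5, 7, 13, 9, 11, 3, 4, 9, 4, 5, 7, 13, 9, 11, 3, 4, 9, 2, 9, 0], [13, 5, 6, 8, 12, 9, 10, 5, 6, 8,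 12, 9, 10, 0, 6, 9, 5, 6, 8, 12, 9, 10, 0, 6, 9, 5, 6, 8, 12, 9, 10, 0, 6, 9, 1, 9, 3]]] ⟨sat_rel_0, trivial⟩

theorem sat : Sat Cfsg.Agent.He5.PSS Cfsg.Agent.He5.Id.B.π :=
  ⟨Cfsg.Agent.He5.Id.B.out, sat_inv, sat_rel⟩

end Cfsg.Agent.He5.Id.B
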