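import Cfsg.Agent.He5.QFr

/-! The action on `Q / ⟨z⟩`, by matrices coded as numbers; enumeration of the isometries. -/

set_option autoImplicit false

namespace Cfsg.Agent.He5

open Cfsg.Agent.Comp Cfsg.Agent.TT

variable {G : Type*} [Group G] {Q : Subgroup G} {z : G} {ψ : ℕ → G}

/-- column `i` of a matrix -/
def col (M i : ℕ) : ℕ := Nat.land (Nat.shiftRight M (Nat.mul (nat_lit 6) i)) (nat_lit 63)

theorem col_eq (M i : ℕ) : col M i = M / 2 ^ (6 * i) % 64 := by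
  change M >>> (6 * i) &&& (2 ^ 6 - 1) = _
  rw [Nat.and_two_pow_sub_one_eq_mod, Nat.shiftRight_eq_div_pow]

theorem col_lt (M i : ℕ) : col M i < 64 := by rw [col_eq]; omega

theorem col_ext {M N : ℕ} (hM : M < 2 ^ 36) (hN : N < 2 ^ 36) (h : ∀ i < 6, col M i = col N i) :
    M = N := by
  have h0 := h 0 (by decide)
  have h1 := h 1 (by decide)
  have h2 := h 2 (by decide)
  have h3 := h 3 (by decide)
  have h4 := h 4 (by decide)
  have h5 := h 5 (by decide)
  simp only [col_eq] at h0 h1 h2 h3 h4 h5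
  omega

/-- the matrix with given columns -/
def pk (a b c d e f : ℕ) : ℕ :=
  Nat.add a (Nat.mul (nat_lit 64) (Nat.add b (Nat.mul (nat_lit 64) (Nat.add c (Nat.mul (nat_lit 64)
    (Nat.add d (Nat.mul (nat_lit 64) (Nat.add e (Nat.mul (nat_lit 64) f)))))))))

theorem pk_spec {c : ℕ → ℕ} (h : ∀ i < 6, c i < 64) :
    pk (c 0) (c 1) (c 2) (c 3) (c 4) (c 5) < 2 ^ 36 ∧
      ∀ i < 6, col (pk (c 0) (c 1) (c 2) (c 3) (c 4) (c 5)) i = c i := by
  have h0 := h 0 (by decide)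
  have h1 := h 1 (by decide)
  have h2 := h 2 (by decide)
  have h3 := h 3 (by decide)
  have h4 := h 4 (by decide)
  have h5 := h 5 (by decide)
  have e : pk (c 0) (c 1) (c 2) (c 3) (c 4) (c 5) =
    c 0 + 64 * (c 1 + 64 * (c 2 + 64 * (c 3 + 64 * (c 4 + 64 * c 5)))) := rfl
  refine ⟨by omega, fun i hi => ?_⟩
  rw [col_eq, e]
  interval_cases i <;> omega

/-- a matrix applied to a vector -/
def lin (M k : ℕ) : ℕ :=
  Nat.xor (sl k 3 (col M 3)) (Nat.xor (sl k 4 (col M 4)) (Nat.xor (sl k 5 (col M 5))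
    (Nat.xor (sl k 0 (col M 0)) (Nat.xor (sl k 1 (col M 1)) (sl k 2 (col M 2))))))

def mm0 (M N : ℕ) : ℕ :=
  Nat.xor (Nat.mul (Nat.land (Nat.shiftRight N (nat_lit 3)) (nat_lit 1090785345))
      (Nat.land (Nat.shiftRight M (nat_lit 18)) (nat_lit 63)))
    (Nat.xor (Nat.mul (Nat.land (Nat.shiftRight N (nat_lit 4)) (nat_lit 1090785345))
      (Nat.land (Nat.shiftRight M (nat_lit 24)) (nat_lit 63)))
    (Nat.xor (Nat.mul (Nat.land (Nat.shiftRight N (nat_lit 5)) (nat_lit 1090785345))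
      (Nat.land (Nat.shiftRight M (nat_lit 30)) (nat_lit 63)))
    (Nat.xor (Nat.mul (Nat.land (Nat.shiftRight N (nat_lit 0)) (nat_lit 1090785345))
      (Nat.land (Nat.shiftRight M (nat_lit 0)) (nat_lit 63)))
    (Nat.xor (Nat.mul (Nat.land (Nat.shiftRight N (nat_lit 1)) (nat_lit 1090785345))
      (Nat.land (Nat.shiftRight M (nat_lit 6)) (nat_lit 63)))
    (Nat.mul (Nat.land (Nat.shiftRight N (nat_lit 2)) (nat_lit 1090785345))
      (Nat.land (Nat.shiftRight M (nat_lit 12)) (nat_lit 63)))))))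

/-- product of matrices -/
noncomputable def mm (M N : ℕ) : ℕ := force M fun M => force N fun N => mm0 M N

theorem spread6 : ∀ b0 b1 b2 b3 b4 b5 : Bool, ∀ r < 64,
    (b0.toNat * 2 ^ 0 ||| (b1.toNat * 2 ^ 6 ||| (b2.toNat * 2 ^ 12 ||| (b3.toNat * 2 ^ 18 |||
      (b4.toNat * 2 ^ 24 ||| b5.toNat * 2 ^ 30))))) * r < 2 ^ 36 ∧ ∀ i < 6,
    col ((b0.toNat * 2 ^ 0 ||| (b1.toNat * 2 ^ 6 ||| (b2.toNat * 2 ^ 12 ||| (b3.toNat * 2 ^ 18 |||
      (b4.toNat * 2 ^ 24 ||| b5.toNat * 2 ^ 30))))) * r) i =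
      ([b0, b1, b2, b3, b4, b5].getD i false).toNat * r := by decide +kernel

theorem t6_spec (M N : ℕ) {j : ℕ} (hj : j < 6) : (N >>> j &&& 1090785345) * col M j < 2 ^ 36 ∧
    ∀ i < 6, col ((N >>> j &&& 1090785345) * col M j) i = sl (col N i) j (col M j) := by
  rw [show 1090785345 = 2 ^ 0 ||| (2 ^ 6 ||| (2 ^ 12 ||| (2 ^ 18 ||| (2 ^ 24 ||| 2 ^ 30)))) from rfl]
  simp only [Nat.and_or_distrib_left, Nat.and_two_pow]
  obtain ⟨h1, h2⟩ := spread6 ((N >>> j).testBit 0) ((N >>> j).testBit 6) ((N >>> j).testBit 12)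
    ((N >>> j).testBit 18) ((N >>> j).testBit 24) ((N >>> j).testBit 30) (col M j) (col_lt _ _)
  refine ⟨h1, fun i hi => ?_⟩
  have e : (col N i).testBit j = N.testBit (j + 6 * i) := by
    change (N >>> (6 * i) &&& (2 ^ 6 - 1)).testBit j = _
    rw [Nat.testBit_and, Nat.testBit_two_pow_sub_one, Nat.testBit_shiftRight, add_comm]
    simp [hj]
  rw [h2 i hi, sl_eq, e]
  simp only [Nat.testBit_shiftRight]
  generalize col M j = r
  interval_cases i <;> simp only [List.getD_cons_zero, List.getD_cons_succ] <;>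
    cases N.testBit _ <;> simp

theorem col_xor (a b i : ℕ) : col (a ^^^ b) i = col a i ^^^ col b i := by
  change (a ^^^ b) >>> (6 * i) &&& 63 = (a >>> (6 * i) &&& 63) ^^^ (b >>> (6 * i) &&& 63)
  rw [Nat.shiftRight_xor_distrib, Nat.and_xor_distrib_right]

theorem mm_eq (M N : ℕ) : mm M N = (N >>> 3 &&& 1090785345) * col M 3 ^^^
    ((N >>> 4 &&& 1090785345) * col M 4 ^^^ ((N >>> 5 &&& 1090785345) * col M 5 ^^^
    ((N >>> 0 &&& 1090785345) * col M 0 ^^^ ((N >>> 1 &&& 1090785345) * col M 1 ^^^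
    (N >>> 2 &&& 1090785345) * col M 2)))) := by
  rw [mm, force_eq, force_eq]; rfl

theorem mm_lt (M N : ℕ) : mm M N < 2 ^ 36 := by
  rw [mm_eq]
  exact Nat.xor_lt_two_pow (t6_spec M N (by decide)).1 (Nat.xor_lt_two_pow (t6_spec M N (by decide)).1
    (Nat.xor_lt_two_pow (t6_spec M N (by decide)).1 (Nat.xor_lt_two_pow (t6_spec M N (by decide)).1
    (Nat.xor_lt_two_pow (t6_spec M N (by decide)).1 (t6_spec M N (by decide)).1))))

theorem col_mm (M N : ℕ) {i : ℕ} (hi : i < 6) : col (mm M N) i = lin M (col N i) := by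
  rw [mm_eq]
  simp only [col_xor]
  rw [(t6_spec M N (by decide)).2 i hi, (t6_spec M N (by decide)).2 i hi,
    (t6_spec M N (by decide)).2 i hi, (t6_spec M N (by decide)).2 i hi,
    (t6_spec M N (by decide)).2 i hi, (t6_spec M N (by decide)).2 i hi]
  rfl

theorem two_pow_lt {i : ℕ} (hi : i < 6) : 2 ^ i < 128 :=
  (Nat.pow_lt_pow_right (by decide) hi).trans (by decide)

namespace QC

theorem zz (h : QC Q z ψ) : z * z = 1 := by
  rw [← h.z_eq, ← h.mul _ (by decide) _ (by decide)]; exact h.mul.zero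

theorem z_ne (h : QC Q z ψ) : z ≠ 1 := fun e =>
  absurd (h.inj (by decide) (by decide) (h.z_eq.trans (e.trans h.mul.zero.symm))) (by decide)

theorem comm (h : QC Q z ψ) {k : ℕ} (hk : k < 128) : ψ k * z = z * ψ k := by
  have : ∀ k < 128, mq k 64 = mq 64 k := by decide +kernel
  rw [← h.z_eq, ← h.mul _ hk _ (by decide), ← h.mul _ (by decide) _ hk, this k hk]

theorem mul_z (h : QC Q z ψ) {k : ℕ} (hk : k < 128) : ψ (mq k 64) = ψ k * z := by
  rw [h.mul _ hk _ (by decide), h.z_eq]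

theorem eqv_mul (h : QC Q z ψ) {x y : G} {a b : ℕ} (ha : a < 128) (hb : b < 128)
    (h1 : Eqv z x (ψ a)) (h2 : Eqv z y (ψ b)) : Eqv z (x * y) (ψ (a ^^^ b)) := by
  refine (h2.mul_left x).trans h.zz ((h1.mul_right (h.comm hb)).trans h.zz ?_)
  rw [← h.mul _ ha _ hb]
  rcases (mq_spec ha hb).2.1 with e | e <;> rw [e]
  · exact Eqv.refl _ _
  · exact Or.inr (h.mul_z (Nat.xor_lt_two_pow (n := 7) ha hb))

theorem eqv_lin (h : QC Q z ψ) {g : ℕ → G} {M : ℕ} (hg : ∀ i < 6, Eqv z (g i) (ψ (col M i)))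
    (k : ℕ) : Eqv z (fq g z k) (ψ (lin M k)) := by
  have a : ∀ i, sl k i (col M i) < 2 ^ 7 := fun i => sl_lt k i ((col_lt M i).trans (by decide))
  have b : ∀ i < 6, Eqv z (pw (g i) (k.testBit i)) (ψ (sl k i (col M i))) := fun i hi => by
    rw [h.mul.sl, pw, pw]
    split_ifs
    exacts [hg i hi, Eqv.refl _ _]
  have x := @Nat.xor_lt_two_pow
  refine h.eqv_mul (a 3) (x (a 4) (x (a 5) (x (a 0) (x (a 1) (a 2))))) (b 3 (by decide)) ?_
  refine h.eqv_mul (a 4) (x (a 5) (x (a 0) (x (a 1) (a 2)))) (b 4 (by decide)) ?_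
  refine h.eqv_mul (a 5) (x (a 0) (x (a 1) (a 2))) (b 5 (by decide)) ?_
  refine h.eqv_mul (a 0) (x (a 1) (a 2)) (b 0 (by decide)) ?_
  refine h.eqv_mul (a 1) (a 2) (b 1 (by decide)) ?_
  refine Eqv.trans h.zz ?_ (b 2 (by decide))
  rw [pw.eq_1 z]
  split_ifs
  exacts [Or.inr rfl, Or.inl (mul_one _)]

theorem eq_of_eqv (h : QC Q z ψ) {a b : ℕ} (ha : a < 64) (hb : b < 64) (e : Eqv z (ψ a) (ψ b)) :
    a = b := by
  rcases e with e | e
  · exact h.inj (by omega) (by omega) e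
  · rw [← h.mul_z (by omega)] at e
    have := h.inj (by omega) (mq_lt (by omega) (by decide)) e
    have k : ∀ b < 64, 64 ≤ mq b 64 := by decide +kernel
    have := k b hb
    omega

theorem hm_conj (h : QC Q z ψ) (c : G) : Hm fun k => c * ψ k * c⁻¹ := fun k hk l hl => by
  simp only [h.mul k hk l hl]; group

end QC

/-- `c` centralises `z` and acts on `Q / ⟨z⟩` as the matrix `M` -/
def Lin (z : G) (ψ : ℕ → G) (c : G) (M : ℕ) : Prop :=
  c * z = z * c ∧ ∀ i < 6, Eqv z (c * ψ (2 ^ i) * c⁻¹) (ψ (col M i))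

/-- the identity matrix -/
def i6 : ℕ := nat_lit 34630287489

theorem col_i6 : ∀ i < 6, col i6 i = 2 ^ i := by decide +kernel

namespace QC

theorem lin_all (h : QC Q z ψ) {c : G} {M : ℕ} (hc : Lin z ψ c M) {k : ℕ} (hk : k < 128) :
    Eqv z (c * ψ k * c⁻¹) (ψ (lin M k)) := by
  have := (h.hm_conj c).eq_fq hk
  simp only [h.z_eq, conj_eq_of_comm hc.1] at this
  rw [this]
  exact h.eqv_lin hc.2 k

theorem lin_mul (h : QC Q z ψ) {c d : G} {M N : ℕ} (hc : Lin z ψ c M) (hd : Lin z ψ d N) :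
    Lin z ψ (c * d) (mm M N) := by
  refine ⟨comm_mul_left hc.1 hd.1, fun i hi => ?_⟩
  rw [col_mm M N hi, show c * d * ψ (2 ^ i) * (c * d)⁻¹ = c * (d * ψ (2 ^ i) * d⁻¹) * c⁻¹ by group]
  exact ((hd.2 i hi).conj hc.1).trans h.zz (h.lin_all hc ((col_lt _ _).trans (by decide)))

theorem lin_of_mem (h : QC Q z ψ) {q : G} (hq : q ∈ Q) : Lin z ψ q i6 := by
  obtain ⟨k, hk, rfl⟩ := h.mem.1 hq
  refine ⟨h.comm hk, fun i hi => ?_⟩
  have : ∀ k < 128, ∀ i < 6, mq k (2 ^ i) = mq (2 ^ i) k ∨ mq k (2 ^ i) = mq (mq (2 ^ i) k) 64 := by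
    decide +kernel
  have h2 := two_pow_lt hi
  rw [col_i6 i hi, ← h.mul _ hk _ h2]
  rcases this k hk i hi with e | e <;> rw [e]
  · rw [h.mul _ h2 _ hk]; exact Or.inl (mul_inv_cancel_right _ _)
  · rw [h.mul_z (mq_lt h2 hk), h.mul _ h2 _ hk, mul_assoc (ψ _), h.comm hk]
    exact Or.inr (by group)

theorem lin_unique (h : QC Q z ψ) {c : G} {M N : ℕ} (hM : Lin z ψ c M) (hN : Lin z ψ c N)
    (h1 : M < 2 ^ 36) (h2 : N < 2 ^ 36) : M = N :=
  col_ext h1 h2 fun i hi => h.eq_of_eqv (col_lt _ _) (col_lt _ _)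
    (((hM.2 i hi).symm h.zz).trans h.zz (hN.2 i hi))

theorem lin_mem [Finite G] (h : QC Q z ψ) (lx : LX Q z) {c d : G} {M : ℕ} (hc : Lin z ψ c M)
    (hd : Lin z ψ d M) : d⁻¹ * c ∈ Q := by
  refine lx.mem_of_trivial fun x hx => ?_
  obtain ⟨k, hk, rfl⟩ := h.mem.1 hx
  have := ((h.lin_all hc hk).trans h.zz ((h.lin_all hd hk).symm h.zz)).conj (comm_inv_left hd.1)
  convert this using 1 <;> group

end QC

/-- the columns form a frame -/
noncomputable def frB (P : ℕ) : Bool :=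
  allLT 6 fun j => force (col P j) fun v => and' (Nat.beq (mq v v) 0) (allLT j fun i =>
    force (col P i) fun u => Nat.beq (mq u v)
      (ite' (Nat.beq j (Nat.add i 3)) (mq (mq v u) 64) (mq v u)))

theorem QC.change [Finite G] (h : QC Q z ψ) {P : ℕ} (hP : frB P = true) :
    ∃ ψ', QC Q z ψ' ∧ ∀ c M M', Lin z ψ c M → mm M P = mm P M' → Lin z ψ' c M' := by
  have l : ∀ i, col P i < 128 := fun i => (col_lt P i).trans (by decide)
  simp only [frB, allLT_iff, force_eq, and'_eq_true, beq_iff, ite'_eq] at hP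
  have c0 : ∀ j < 6, ∀ i < j, j ≠ i + 3 → Commute (ψ (col P i)) (ψ (col P j)) := fun j hj i hi e => by
    have := (hP j hj).2 i hi
    rw [if_neg e] at this
    change _ * _ = _ * _
    rw [← h.mul _ (l i) _ (l j), this, h.mul _ (l j) _ (l i)]
  have hc : Nat.card Q = 128 := by
    rw [← Nat.card_fin 128]
    refine Nat.card_congr (Equiv.ofBijective (fun k : Fin 128 => (⟨ψ k, h.mem.2 ⟨k, k.2, rfl⟩⟩ : Q))
      ⟨fun k l e => Fin.ext (h.inj k.2 l.2 (congrArg Subtype.val e)), fun q => ?_⟩).symm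
    obtain ⟨k, hk, e⟩ := h.mem.1 q.2
    exact ⟨⟨k, hk⟩, Subtype.ext e⟩
  have fr : Fr z fun i => ψ (col P i) := by
    refine ⟨h.zz, fun i _ => (h.comm (l i)).symm, fun i hi => ?_, fun i hi j hj h1 h2 => ?_,
      fun i hi => ?_⟩
    · rw [← h.mul _ (l i) _ (l i), (hP i hi).1, h.mul.zero]
    · rcases lt_trichotomy i j with e | rfl | e
      exacts [c0 j hj i e h2, Commute.refl _, (c0 i hi j e h1).symm]
    · have := (hP (i + 3) (by omega)).2 i (by omega)
      rw [if_pos rfl] at this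
      rw [← h.mul _ (l i) _ (l _), this, h.mul_z (mq_lt (l _) (l _)), h.mul _ (l _) _ (l _)]
  refine ⟨_, fr.qc h.z_ne (h.mem.2 ⟨64, by decide, h.z_eq⟩) (fun i _ => h.mem.2 ⟨_, l i, rfl⟩) hc,
    fun c M M' hc e => ⟨hc.1, fun i hi => ?_⟩⟩
  rw [fq_basis _ hi]
  refine (h.lin_all hc (l i)).trans h.zz (Eqv.symm h.zz ?_)
  rw [← col_mm M P hi, e, col_mm P M' hi]
  exact h.eqv_lin (fun i _ => Eqv.refl _ _) _

/-- the singular vectors -/
def sgM : ℕ := nat_lit 7621116480854382079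

noncomputable def otTab : ℕ := nat_lit 0x966969966996966969699696969669696996699696699669969696966969696969969669699696699696696996966969966996699669966969696969696969693cc3c33cc33c3cc3c3c33c3c3c3cc3c3c33cc33c3cc33cc33c3c3c3cc3c3c3c3c33c3cc3c33c3cc33c3cc3c33c3cc3c33cc33cc33cc33cc3c3c3c3c3c3c3c3c35aa5a55aa55a5aa5a5a55a5a5a5aa5a5a55aa55a5aa55aa55a5a5a5aa5a5a5a5a55a5aa5a55a5aa55a5aa5a55a5aa5a55aa55aa55aa55aa5a5a5a5a5a5a5a5a5f00f0ff00ff0f00f0f0ff0f0f0f00f0f0ff00ff0f00ff00ff0f0f0f00f0f0f0f0ff0f00f0ff0f00ff0f00f0ff0f00f0ff00ff00ff00ff00f0f0f0f0f0f0f0f0f66999966996666999999666666669999996699666699669966666666999999999966669999666699666699996666999966996699669966999999999999999999cc3333cc33cccc333333cccccccc333333cc33cccc33cc33cccccccc3333333333cccc3333cccc33cccc3333cccc3333cc33cc33cc33cc333333333333333333aa5555aa55aaaa555555aaaaaaaa555555aa55aaaa55aa55aaaaaaaa5555555555aaaa5555aaaa55aaaa5555aaaa5555aa55aa55aa55aa55555555555555555500ffff00ff0000ffffff00000000ffffff00ff0000ff00ff00000000ffffffffff0000ffff0000ff0000ffff0000ffff00ff00ff00ff00ffffffffffffffffff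

/-- the vectors orthogonal to `u` -/
noncomputable def orth (u : ℕ) : ℕ := dig (nat_lit 64) (nat_lit 18446744073709551615) otTab u

/-- the vectors not orthogonal -/
def nt (o : ℕ) : ℕ := Nat.xor o (nat_lit 18446744073709551615)

/-- `p` holds for all isometries -/
noncomputable def allO (p : ℕ → Bool) : Bool :=
  bitsAll 0 (fun c0 => force (orth c0) fun o0 =>
    bitsAll 0 (fun c3 => force (Nat.land (Nat.land sgM o0) (orth c3)) fun s1 =>
      bitsAll 0 (fun c1 => force (orth c1) fun o1 =>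
        bitsAll 0 (fun c4 => force (Nat.land (Nat.land s1 o1) (orth c4)) fun s2 =>
          bitsAll 0 (fun c2 => bitsAll 0 (fun c5 => force (pk c0 c1 c2 c3 c4 c5) p) 64
            (Nat.land s2 (nt (orth c2)))) 64 s2) 64 (Nat.land s1 (nt o1))) 64 s1) 64
      (Nat.land sgM (nt o0))) 64 sgM

theorem orth_chk : allLT 128 (fun a => and' (Nat.beq (Nat.land (Nat.shiftRight sgM (Nat.mod a 64)) 1)
    (ite' (Nat.beq (mq a a) 0) 1 0)) (force (orth (Nat.mod a 64)) fun o => allLT 128 fun b =>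
      Nat.beq (Nat.land (Nat.shiftRight o (Nat.mod b 64)) 1) (ite' (Nat.beq (mq a b) (mq b a)) 1 0))) =
    true := by decide +kernel

theorem bit_iff (x i : ℕ) (p : Prop) [Decidable p] (h : x >>> i &&& 1 = if p then 1 else 0) :
    x.testBit i = true ↔ p := by
  rw [← tb_eq, tb, beq_iff]
  change x >>> i &&& 1 = 1 ↔ p
  rw [h]
  split_ifs <;> simp [*]

theorem QC.exists_lin (h : QC Q z ψ) (lx : LX Q z) {p : ℕ → Bool} (hp : allO p = true) {c : G}
    (hc : c * z = z * c) : ∃ M < 2 ^ 36, Lin z ψ c M ∧ p M = true := by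
  have : ∀ i, ∃ a < 128, i < 6 → ψ a = c * ψ (2 ^ i) * c⁻¹ := fun i => by
    by_cases hi : i < 6
    · obtain ⟨a, h1, h2⟩ := h.mem.1 (lx.norm c hc _ (h.mem.2 ⟨_, two_pow_lt hi, rfl⟩))
      exact ⟨a, h1, fun _ => h2⟩
    · exact ⟨0, by decide, fun e => absurd e hi⟩
  choose A hA hA' using this
  have k := fun a ha => (allLT_iff _ _).1 orth_chk a ha
  simp only [and'_eq_true, beq_iff, force_eq, allLT_iff, ite'_eq] at k
  have hm := h.hm_conj c
  have tr : ∀ i < 6, ∀ j < 6, ∀ i' < 6, ∀ j' < 6, (mq (A i) (A j) = mq (A i') (A j') ↔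
      mq (2 ^ i) (2 ^ j) = mq (2 ^ i') (2 ^ j')) := by
    intro i hi j hj i' hi' j' hj'
    have e : ∀ i < 6, ∀ j < 6, ψ (mq (A i) (A j)) = c * ψ (mq (2 ^ i) (2 ^ j)) * c⁻¹ :=
      fun i hi j hj => by
        rw [h.mul _ (hA i) _ (hA j), hA' i hi, hA' j hj]
        exact (hm _ (two_pow_lt hi) _ (two_pow_lt hj)).symm
    refine ⟨fun a => h.inj (mq_lt (two_pow_lt hi) (two_pow_lt hj))
      (mq_lt (two_pow_lt hi') (two_pow_lt hj')) ?_,
      fun a => h.inj (mq_lt (hA i) (hA j)) (mq_lt (hA i') (hA j')) (by rw [e i hi j hj, e i' hi' j' hj', a])⟩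
    have := (e i hi j hj).symm.trans (a ▸ e i' hi' j' hj')
    simpa using this
  have s : ∀ i < 6, sgM.testBit (A i % 64) = true := fun i hi => (bit_iff _ _ _ (k _ (hA i)).1).2 (by
    refine h.inj (mq_lt (hA i) (hA i)) (by decide) ?_
    have : ∀ i < 6, mq (2 ^ i) (2 ^ i) = 0 := by decide +kernel
    rw [h.mul _ (hA i) _ (hA i), hA' i hi, conj_mul, ← h.mul _ (two_pow_lt hi) _ (two_pow_lt hi),
      this i hi, h.mul.zero]
    group)
  have o : ∀ i < 6, ∀ j < 6, ((orth (A i % 64)).testBit (A j % 64) = true ↔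
      mq (2 ^ i) (2 ^ j) = mq (2 ^ j) (2 ^ i)) := fun i hi j hj =>
    (bit_iff _ _ _ ((k _ (hA i)).2 _ (hA j))).trans (tr i hi j hj j hj i hi)
  have o1 : ∀ i j, (i < 6 ∧ j < 6 ∧ mq (2 ^ i) (2 ^ j) = mq (2 ^ j) (2 ^ i)) →
      (orth (A i % 64)).testBit (A j % 64) = true := fun i j e => (o i e.1 j e.2.1).2 e.2.2
  have o2 : ∀ i j, (i < 6 ∧ j < 6 ∧ mq (2 ^ i) (2 ^ j) ≠ mq (2 ^ j) (2 ^ i)) →
      (nt (orth (A i % 64))).testBit (A j % 64) = true := fun i j e => by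
    have := (o i e.1 j e.2.1).not.2 e.2.2
    change (orth (A i % 64) ^^^ (2 ^ 64 - 1)).testBit (A j % 64) = true
    rw [Nat.testBit_xor, Nat.testBit_two_pow_sub_one]
    simp [this, Nat.mod_lt]
  have ld : ∀ {x y j : ℕ}, x.testBit j = true → y.testBit j = true → (Nat.land x y).testBit j = true :=
    fun {x y j} a b => by change (x &&& y).testBit j = true; rw [Nat.testBit_and, a, b]; rfl
  have s1 : ∀ j, (j < 6 ∧ j ≠ 0 ∧ j ≠ 3) → (Nat.land (Nat.land sgM (orth (A 0 % 64)))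
      (orth (A 3 % 64))).testBit (A j % 64) = true := fun j e =>
    ld (ld (s j e.1) (o1 0 j (by obtain ⟨a, b, c⟩ := e; interval_cases j <;> simp_all <;> decide)))
      (o1 3 j (by obtain ⟨a, b, c⟩ := e; interval_cases j <;> simp_all <;> decide))
  have k0 := of_bitsAll hp (s 0 (by decide))
  simp only [zero_add, force_eq] at k0
  have k3 := of_bitsAll k0 (ld (s 3 (by decide)) (o2 0 3 (by decide)))
  simp only [zero_add] at k3
  have k1 := of_bitsAll k3 (s1 1 (by decide))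
  simp only [zero_add] at k1
  have k4 := of_bitsAll k1 (ld (s1 4 (by decide)) (o2 1 4 (by decide)))
  simp only [zero_add] at k4
  have k2 := of_bitsAll k4 (ld (ld (s1 2 (by decide)) (o1 1 2 (by decide))) (o1 4 2 (by decide)))
  simp only [zero_add] at k2
  have k5 := of_bitsAll k2 (ld (ld (ld (s1 5 (by decide)) (o1 1 5 (by decide))) (o1 4 5 (by decide)))
    (o2 2 5 (by decide)))
  simp only [zero_add] at k5
  obtain ⟨a1, a2⟩ := pk_spec (c := fun i => A i % 64) fun i _ => Nat.mod_lt _ (by decide)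
  refine ⟨_, a1, ⟨hc, fun i hi => ?_⟩, k5⟩
  rw [a2 i hi, ← hA' i hi]
  have : ∀ a < 128, a = a % 64 ∨ a = mq (a % 64) 64 := by decide +kernel
  rcases this _ (hA i) with e | e
  · exact Or.inl (congrArg ψ e)
  · exact Or.inr (by rw [← h.mul_z (by omega), ← e])

end Cfsg.Agent.He5
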