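import Cfsg.Agent.He5.QAct
import Cfsg.Agent.Comp.BitWord

/-! The two classes of subgroups `L₃(2)` of `O₆⁺(2)` and their action on `2 ^ (1 + 6)`. -/

set_option autoImplicit false

namespace Cfsg.Agent.He5

open Cfsg.Agent.Comp Cfsg.Agent.TT

variable {G : Type*} [Group G] {Q : Subgroup G} {z : G} {ψ : ℕ → G}

/-- an isometry of order seven -/
def w0 : ℕ := nat_lit 9133109506

/-- the first non-zero column -/
noncomputable def nz (M : ℕ) : ℕ :=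
  force M fun M => ite' (Nat.beq (col M 0) 0) (ite' (Nat.beq (col M 1) 0) (ite' (Nat.beq (col M 2) 0)
    (ite' (Nat.beq (col M 3) 0) (col M 4) (col M 3)) (col M 2)) (col M 1)) (col M 0)

noncomputable def anyOrb (g : ℕ) (p : ℕ → Bool) (n : ℕ) : ℕ → Bool :=
  Nat.rec (motive := fun _ => ℕ → Bool) (fun _ => false)
    (fun _ ih u => or' (p u) (force (lin g u) ih)) n

theorem anyOrb_spec {g : ℕ} {p : ℕ → Bool} {n u : ℕ} (h : anyOrb g p n u = true) :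
    ∃ v, p v = true := by
  induction n generalizing u with
  | zero => exact absurd h Bool.false_ne_true
  | succ n ih =>
    change or' (p u) (force (lin g u) (anyOrb g p n)) = true at h
    rw [or'_eq_true, force_eq] at h
    exact h.elim (fun h => ⟨u, h⟩) ih

noncomputable def p1 (g : ℕ) : Bool :=
  force (mm g g) fun g2 => force (mm g2 g2) fun g4 => or' (not' (Nat.beq (mm g4 g4) g))
    (or' (Nat.beq g i6) (force (mm g2 g) fun g3 => force (nz (Nat.xor (Nat.xor g3 g2) i6)) fun x0 =>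
      force (lin g x0) fun x1 => force (lin g x1) fun x2 => force (nz (Nat.xor (Nat.xor g3 g) i6))
        (anyOrb g (fun u => and' (and' (Nat.beq (mq x0 u) (mq u x0)) (Nat.beq (mq x2 u) (mq u x2)))
          (force (lin g u) fun y2 => force (pk x0 x1 x2 (lin g y2) u y2) fun P =>
            and' (frB P) (Nat.beq (mm g P) (mm P w0)))) 7)))

theorem pass1 : allO p1 = true := by decide +kernel

theorem p1_spec {g : ℕ} (h : p1 g = true)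
    (e : mm (mm (mm g g) (mm g g)) (mm (mm g g) (mm g g)) = g) :
    g = i6 ∨ ∃ P, frB P = true ∧ mm g P = mm P w0 := by
  simp only [p1, force_eq, or'_eq_true, not'_eq_true, beq_iff, e, not_true, false_or] at h
  refine h.imp_right fun h => ?_
  obtain ⟨u, hu⟩ := anyOrb_spec h
  simp only [and'_eq_true, beq_iff] at hu
  exact ⟨_, hu.2⟩

/-- exact action of `b, c, m, n`, split module -/
def tA : List ℕ := [nat_lit 1105970921731, nat_lit 1653579252481, nat_lit 1101692731522, nat_lit 558362558977]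
/-- exact action of `b, c, m, n`, uniserial module -/
def tB' : List ℕ := [nat_lit 696472601153, nat_lit 3182673552260, nat_lit 3301256003714, nat_lit 3305938944259]
def lA : List ℕ := [nat_lit 34764505219, nat_lit 51810156929, nat_lit 34498166850, nat_lit 17718845697]
def lB : List ℕ := [nat_lit 22047367425, nat_lit 30346056132, nat_lit 34531983426, nat_lit 34815361155]

structure Srv where
  s : ℕ
  ty : Bool
  P : ℕ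
  ws : List (List ℕ)
  uw : List ℕ
  us : List ℕ

def srv : List Srv := [
   ⟨nat_lit 17718845697, true, nat_lit 34630287489, [[0, 0, 0, 0, 0, 0, 0, 0, 0, 0, 0, 0, 0, 0, 0,
    0, 0, 0, 1, 0, 0, 0], [0, 1, 0, 0, 0, 0, 0, 0, 0, 0, 0, 0, 0, 0, 1, 0, 0, 1, 0, 0, 0, 0, 0,
    0], [1, 0, 0, 0, 1, 0, 0, 0], [1]], [0, 2, 3], [3]⟩,
   ⟨nat_lit 22047367425, false, nat_lit 19078340865, [[0, 0, 1, 0, 0, 0, 0, 0, 0, 0, 0, 0, 0, 0,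
    0, 0, 0, 0, 0, 0, 0, 1, 0, 0], [0, 1, 0, 0, 0, 0, 0, 0], [0, 1, 0, 0, 1], [0, 0, 0, 1, 0, 0,
    0, 0, 0, 0, 0, 0, 0, 0, 0, 0, 0, 0, 0, 0, 0, 0, 1, 0]], [1, 0, 2, 3, 1, 2], [1, 2, 0, 3, 2]⟩,
   ⟨nat_lit 17718977793, false, nat_lit 30636115464, [[0, 1, 0, 0, 0, 1, 0, 0], [0, 0, 0, 1, 0, 0,
    0, 1], [0, 1, 0, 0, 0, 0, 0, 0, 0, 0, 0, 0, 0, 0, 0, 0, 0, 0, 0, 0, 1, 0, 0, 0], [1, 0, 0, 0,
    1, 0, 0, 0]], [0, 2, 0, 3, 2], [1, 3, 1]⟩,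
   ⟨nat_lit 51814351297, true, nat_lit 34630287489, [[0, 0, 1, 0, 0, 0, 0, 0, 0, 0, 0, 0, 0, 0,
    0], [0, 0, 1, 0, 0, 1, 0, 0, 0, 0, 0, 0], [0, 0, 1, 0, 0, 0, 0, 0, 0, 0, 0, 0, 0, 0, 0, 0, 0,
    0, 0, 0, 0, 1, 0, 0], [0, 0, 0, 0, 0, 0, 0, 0, 0, 0, 0, 0, 1, 0, 0]], [0, 2, 3], [0, 2, 0, 1]⟩,
   ⟨nat_lit 58341474753, false, nat_lit 19078340865, [[0, 0, 0, 1, 0, 0, 0, 1], [0, 0, 0, 0, 0, 0,
    1, 0], [0, 0, 0, 0, 0, 0, 1, 0, 0, 1, 0, 0], [0, 1, 0, 0, 0, 0, 0, 0, 0, 0, 0, 0, 0, 0, 0, 0,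
    0, 0, 0, 0, 1, 0, 0, 0]], [1, 0, 2, 3, 1, 2], [1, 2, 1]⟩,
   ⟨nat_lit 34638680193, true, nat_lit 34630287489, [[0, 1, 0, 0, 0, 0, 0, 0], [0, 1, 0, 0, 1],
    [0, 1, 0, 0, 0, 0, 0, 0, 0, 0, 0, 0, 0, 0, 0, 0, 0, 0, 0, 0, 1, 0, 0, 0], [0, 0, 0, 0, 0, 0,
    0, 0, 0, 0, 0, 0, 0, 0, 0, 0, 0, 0, 1, 0, 0, 0]], [0, 2, 3], [2, 1, 3, 1, 2]⟩,
   ⟨nat_lit 35731034241, false, nat_lit 19078340865, [[0, 0, 1, 0, 0, 0, 1, 0], [0, 0, 0, 0, 0, 0,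
    0, 0, 0, 0, 0, 0, 1, 0, 0], [1, 0, 0, 1, 0, 0, 0, 0, 0, 0, 0, 0, 0, 0, 0, 0, 1], [0, 0, 0, 1,
    0, 0, 0, 1]], [1, 0, 2, 3, 1, 2], [0, 1, 3, 1]⟩,
   ⟨nat_lit 35043438658, true, nat_lit 34630287489, [[0, 0, 0, 0, 0, 0, 0, 0, 0, 0, 0, 0, 1, 0,
    0], [1, 0, 0, 1, 0, 0, 0, 0, 0, 0, 0, 0, 0, 0, 0, 0, 1], [0, 1, 0, 0, 0, 1, 0, 0], [0, 1, 0,
    0, 0, 0, 0, 0]], [0, 2, 3], [1, 0, 2, 3, 2, 0, 1]⟩,
   ⟨nat_lit 35077255234, false, nat_lit 19078340865, [[0, 0, 0, 1, 0, 0, 0, 0, 0, 0, 0, 0, 0, 0,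
    0, 0, 0, 0, 0, 0, 0, 0, 1, 0], [0, 0, 1, 0, 0, 0, 0, 0, 0, 0, 0, 0, 0, 0, 0], [0, 0, 1, 0, 0,
    1, 0, 0, 0, 0, 0, 0], [1, 0, 0, 0, 1, 0, 0, 0]], [1, 0, 2, 3, 1, 2], [3, 0, 2, 0, 1, 3]⟩,
   ⟨nat_lit 34764505219, true, nat_lit 34630287489, [[1], [1, 0, 0, 1, 0], [0, 0, 0, 1, 0, 0, 0,
    1], [0, 0, 0, 1, 0, 0, 0, 0, 0, 0, 0, 0, 0, 0, 0, 0, 0, 0, 0, 0, 0, 0]], [0, 2, 3], [0]⟩,
   ⟨nat_lit 37029953667, false, nat_lit 19078340865, [[0, 1, 0, 0, 0, 1, 0, 0], [0, 0, 0, 0, 0, 0,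
    0, 0, 0, 0, 0, 0, 0, 0, 0, 0, 0, 0, 1, 0, 0, 0], [0, 1, 0, 0, 0, 0, 0, 0, 0, 0, 0, 0, 0, 0, 1,
    0, 0, 1, 0, 0, 0, 0, 0, 0], [0, 0, 1, 0, 0, 0, 1, 0]], [1, 0, 2, 3, 1, 2], [1, 0, 1]⟩,
   ⟨nat_lit 60400091525, true, nat_lit 34630287489, [[0, 0, 0, 0, 0, 0, 1, 0], [0, 0, 0, 0, 0, 0,
    1, 0, 0, 1, 0, 0], [0, 0, 1, 0, 0, 0, 1, 0], [0, 0, 1, 0, 0, 0, 0, 0, 0, 0, 0, 0, 0, 0, 0]],
    [0, 2, 3], [0, 1, 0]⟩,
   ⟨nat_lit 65769849221, false, nat_lit 19078340865, [[1, 0, 0, 0, 1, 0, 0, 0], [0, 0, 0, 1, 0, 0,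
    0, 0, 0, 0, 0, 0, 0, 0, 0, 0, 0, 0, 0, 0, 0, 0], [1, 0, 0, 0, 0, 0, 0, 0, 0, 0, 0, 0, 0, 1, 0,
    0, 1], [0, 1, 0, 0, 0, 1, 0, 0]], [1, 0, 2, 3, 1, 2], [2, 0, 1, 3, 1, 2]⟩,
   ⟨nat_lit 9537859718, true, nat_lit 34630287489, [[0, 0, 0, 1, 0, 0, 0, 0, 0, 0, 0, 0, 0, 0, 0,
    0, 0, 0, 0, 0, 0, 0], [1, 0, 0, 0, 0, 0, 0, 0, 0, 0, 0, 0, 0, 1, 0, 0, 1], [0, 0, 0, 1, 0, 0,
    0, 0, 0, 0, 0, 0, 0, 0, 0, 0, 0, 0, 0, 0, 0, 0, 1, 0], [0, 0, 0, 0, 0, 0, 1, 0]], [0, 2, 3],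
    [0, 2, 3, 2, 0]⟩,
   ⟨nat_lit 13883945094, false, nat_lit 19078340865, [[0, 1, 0, 0, 0, 0, 0, 0, 0, 0, 0, 0, 0, 0,
    0, 0, 0, 0, 0, 0, 1, 0, 0, 0], [1], [1, 0, 0, 1, 0], [0, 0, 1, 0, 0, 0, 0, 0, 0, 0, 0, 0, 0,
    0, 0, 0, 0, 0, 0, 0, 0, 1, 0, 0]], [1, 0, 2, 3, 1, 2], [1]⟩,
   ⟨nat_lit 9537990798, false, nat_lit 30636115464, [[1, 0, 0, 0, 1, 0, 0, 0], [0, 0, 1, 0, 0, 0,
    1, 0], [0, 0, 0, 1, 0, 0, 0, 1], [0, 0, 0, 1, 0, 0, 0, 0, 0, 0, 0, 0, 0, 0, 0, 0, 0, 0, 0, 0,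
    0, 0, 1, 0]], [0, 2, 0, 3, 2], [0, 2, 0]⟩,
   ⟨nat_lit 51814352849, false, nat_lit 30636115464, [[0, 0, 0, 1, 0, 0, 0, 0, 0, 0, 0, 0, 0, 0,
    0, 0, 0, 0, 0, 0, 0, 0, 1, 0], [0, 1, 0, 0, 0, 1, 0, 0], [0, 0, 1, 0, 0, 0, 1, 0], [0, 0, 1,
    0, 0, 0, 0, 0, 0, 0, 0, 0, 0, 0, 0, 0, 0, 0, 0, 0, 0, 1, 0, 0]], [0, 2, 0, 3, 2], [0, 1, 0]⟩,
   ⟨nat_lit 34638911649, false, nat_lit 30636115464, [[0, 0, 1, 0, 0, 0, 0, 0, 0, 0, 0, 0, 0, 0,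
    0, 0, 0, 0, 0, 0, 0, 1, 0, 0], [1, 0, 0, 0, 1, 0, 0, 0], [0, 1, 0, 0, 0, 1, 0, 0], [0, 1, 0,
    0, 0, 0, 0, 0, 0, 0, 0, 0, 0, 0, 0, 0, 0, 0, 0, 0, 1, 0, 0, 0]], [0, 2, 0, 3, 2], [1, 0, 2, 3,
    2, 0, 1]⟩,
   ⟨nat_lit 35043603562, false, nat_lit 30636115464, [[0, 0, 1, 0, 0, 0, 1, 0], [0, 1, 0, 0, 0, 0,
    0, 0, 0, 0, 0, 0, 0, 0, 0, 0, 0, 0, 0, 0, 1, 0, 0, 0], [0, 0, 1, 0, 0, 0, 0, 0, 0, 0, 0, 0, 0,
    0, 0, 0, 0, 0, 0, 0, 0, 1, 0, 0], [0, 1, 0, 0, 0, 1, 0, 0]], [0, 2, 0, 3, 2], [1, 0, 1]⟩,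
   ⟨nat_lit 60400192941, false, nat_lit 30636115464, [[0, 0, 0, 1, 0, 0, 0, 1], [0, 0, 1, 0, 0, 0,
    0, 0, 0, 0, 0, 0, 0, 0, 0, 0, 0, 0, 0, 0, 0, 1, 0, 0], [0, 0, 0, 1, 0, 0, 0, 0, 0, 0, 0, 0, 0,
    0, 0, 0, 0, 0, 0, 0, 0, 0, 1, 0], [0, 0, 1, 0, 0, 0, 1, 0]], [0, 2, 0, 3, 2], [0, 1, 2, 0, 3,
    2, 0]⟩,
   ⟨nat_lit 34764538555, false, nat_lit 30636115464, [[0, 1, 0, 0, 0, 0, 0, 0, 0, 0, 0, 0, 0, 0,
    0, 0, 0, 0, 0, 0, 1, 0, 0, 0], [0, 0, 0, 1, 0, 0, 0, 0, 0, 0, 0, 0, 0, 0, 0, 0, 0, 0, 0, 0, 0,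
    0, 1, 0], [1, 0, 0, 0, 1, 0, 0, 0], [0, 0, 0, 1, 0, 0, 0, 1]], [0, 2, 0, 3, 2], [2, 3, 2]⟩]

noncomputable def p2 (s : ℕ) : Bool :=
  or' (not' (Nat.beq (mm s s) i6)) (force (mm s w0) fun u => or' (not' (Nat.beq (mm (mm u u) u) i6))
    (anyL srv fun d => Nat.beq s d.s))

theorem pass2 : allO p2 = true := by decide +kernel

noncomputable def evM (l : List ℕ) (W : List ℕ) : ℕ :=
  List.rec (motive := fun _ => ℕ) i6 (fun k _ ih => mm (BN.nth i6 l k) ih) W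

theorem QC.lin_ev (h : QC Q z ψ) {x : ℕ → G} {l : List ℕ} (hx : ∀ k, Lin z ψ (x k) (BN.nth i6 l k))
    (W : List ℕ) : Lin z ψ (BN.ev x W) (evM l W) := by
  induction W with
  | nil => exact h.lin_of_mem Q.one_mem
  | cons k W ih => rw [BN.ev_cons]; exact h.lin_mul (hx k) ih

theorem srv_chk : allL srv (fun d => and' (frB d.P) (and' (allLT 4 fun k =>
    Nat.beq (mm (evM [w0, d.s] (BN.nth [] d.ws k)) d.P) (mm d.P (BN.nth i6 (ite' d.ty lA lB) k)))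
    (and' (Nat.beq (mm w0 d.P) (mm d.P (evM (ite' d.ty lA lB) d.uw)))
      (Nat.beq (mm d.s d.P) (mm d.P (evM (ite' d.ty lA lB) d.us)))))) = true := by decide +kernel

/-- `c` centralises `z` and acts on the basis by the table `A` -/
def Act (z : G) (ψ : ℕ → G) (c : G) (A : ℕ) : Prop :=
  c * z = z * c ∧ ∀ i < 6, c * ψ (2 ^ i) * c⁻¹ = ψ (c7 A i)

theorem QC.exact (h : QC Q z ψ) {c : G} {M A : ℕ} (hc : Lin z ψ c M)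
    (hA : ∀ i < 6, c7 A i % 64 = col M i) : ∃ q ∈ Q, Act z ψ (c * q) A := by
  have : ∀ i, ∃ e : Bool, i < 6 → c * ψ (2 ^ i) * c⁻¹ * pw z e = ψ (c7 A i) := fun i => by
    by_cases hi : i < 6
    · have k : ∀ a < 128, a = a % 64 ∨ a = mq (a % 64) 64 := by decide +kernel
      have e : Eqv z (ψ (c7 A i)) (ψ (col M i)) := by
        rw [← hA i hi]
        rcases k _ (c7_lt A i) with e | e
        · exact Or.inl (congrArg ψ e)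
        · exact Or.inr (by rw [← h.mul_z (by omega), ← e])
      rcases e.trans h.zz ((hc.2 i hi).symm h.zz) with e | e
      · exact ⟨false, fun _ => by rw [e, pw, if_neg (by simp), mul_one]⟩
      · exact ⟨true, fun _ => by rw [e, pw, if_pos rfl]⟩
    · exact ⟨false, fun e => absurd e hi⟩
  choose e he using this
  have k : ∀ u < 64, ∃ k < 64, ∀ i < 6, mq k (2 ^ i) = mq (mq (2 ^ i) (sl u i 64)) k := by
    decide +kernel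
  obtain ⟨k, hk, hk'⟩ := k (Nat.ofBits (n := 6) fun i => e i) (Nat.ofBits_lt_two_pow _)
  have hk2 : k < 128 := by omega
  refine ⟨ψ k, h.mem.2 ⟨k, hk2, rfl⟩, comm_mul_left hc.1 (h.comm hk2), fun i hi => ?_⟩
  have h2 := two_pow_lt hi
  have h3 := sl_lt (Nat.ofBits (n := 6) fun i => e i) i (show 64 < 128 by decide)
  have := congrArg ψ (hk' i hi)
  rw [h.mul _ hk2 _ h2, h.mul _ (mq_lt h2 h3) _ hk2, h.mul _ h2 _ h3, h.mul.sl,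
    Nat.testBit_ofBits_lt _ _ hi, h.z_eq] at this
  have cz : Commute (pw z (e i)) c := by
    simpa [pw] using pw_comm (show Commute z c from hc.1.symm) (e i) true
  rw [← he i hi, mul_assoc (c * ψ (2 ^ i)), cz.inv_right.symm.eq]
  calc c * ψ k * ψ (2 ^ i) * (c * ψ k)⁻¹ = c * (ψ k * ψ (2 ^ i) * (ψ k)⁻¹) * c⁻¹ := by group
    _ = _ := by rw [this]; group

/-- standard generators `b, c, m, n` of the centraliser of `z` over `Q` -/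
structure Std (Q : Subgroup G) (z : G) (ψ x : ℕ → G) (T : List ℕ) : Prop where
  qc : QC Q z ψ
  act : ∀ k < 4, Act z ψ (x k) (BN.nth 0 T k)
  gen : ∀ K : Subgroup G, Q ≤ K → (∀ k < 4, x k ∈ K) → ∀ g, g * z = z * g → g ∈ K

theorem QC.exists_std [Finite G] (h : QC Q z ψ) (lx : LX Q z) {ω σ : G} (hω : ω * z = z * ω)
    (hσ : σ * z = z * σ) (h1 : ω ^ 7 ∈ Q) (h2 : ω ∉ Q) (h3 : σ * σ ∈ Q) (h4 : (σ * ω) ^ 3 ∈ Q)
    (gen : ∀ K : Subgroup G, Q ≤ K → ω ∈ K → σ ∈ K → ∀ g, g * z = z * g → g ∈ K) :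
    ∃ ψ x, Std Q z ψ x tA ∨ Std Q z ψ x tB' := by
  have i0 : i6 < 2 ^ 36 := by decide
  obtain ⟨g, a1, a2, a3⟩ := h.exists_lin lx pass1 hω
  have b2 := h.lin_mul a2 a2
  have b4 := h.lin_mul b2 b2
  have b8 := h.lin_mul b4 b4
  have e8 : ω * ω * (ω * ω) * (ω * ω * (ω * ω)) = ω * ω ^ 7 := by
    simp only [pow_succ, pow_zero, one_mul, mul_assoc]
  have a4 : mm g i6 = g := h.lin_unique
    (by simpa using h.lin_mul a2 (h.lin_of_mem Q.one_mem)) a2 (mm_lt _ _) a1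
  rcases p1_spec a3 (h.lin_unique b8 (e8 ▸ a4 ▸ h.lin_mul a2 (h.lin_of_mem h1)) (mm_lt _ _) a1) with
    rfl | ⟨P, c1, c2⟩
  · exact absurd (by simpa using h.lin_mem lx a2 (h.lin_of_mem Q.one_mem)) h2
  obtain ⟨ψ1, q1, t1⟩ := h.change c1
  have d1 := t1 _ _ _ a2 c2
  obtain ⟨s, -, d2, d3⟩ := q1.exists_lin lx pass2 hσ
  have d4 := q1.lin_mul d2 d1
  have d5 := q1.lin_unique (q1.lin_mul d2 d2) (q1.lin_of_mem h3) (mm_lt _ _) i0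
  have d6 := q1.lin_unique (q1.lin_mul (q1.lin_mul d4 d4) d4)
    (q1.lin_of_mem (by rwa [pow_three'] at h4)) (mm_lt _ _) i0
  simp only [p2, force_eq, or'_eq_true, not'_eq_true, beq_iff, d5, d6, not_true, false_or,
    anyL_iff] at d3
  obtain ⟨d, hd, rfl⟩ := d3
  have k := (allL_iff _ _).1 srv_chk d hd
  simp only [and'_eq_true, allLT_iff, beq_iff] at k
  obtain ⟨k1, k2, k3, k4⟩ := k
  obtain ⟨ψ2, q2, t2⟩ := q1.change k1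
  have ev1 := q1.lin_ev (x := fun k => [ω, σ].getD k 1) (l := [w0, d.s]) (by
    rintro (_ | _ | k)
    exacts [d1, d2, q1.lin_of_mem Q.one_mem])
  have key : ∀ T L : List ℕ, ite' d.ty lA lB = L → L.length = 4 →
      (∀ k < 4, ∀ i < 6, c7 (BN.nth 0 T k) i % 64 = col (BN.nth i6 L k) i) → ∃ x, Std Q z ψ2 x T := by
    intro T L e hl hT
    rw [e] at k2 k3 k4
    have : ∀ k, ∃ q ∈ Q, k < 4 → Act z ψ2 (BN.ev (fun k => [ω, σ].getD k 1) (BN.nth [] d.ws k) * q)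
        (BN.nth 0 T k) := fun k => by
      by_cases hk : k < 4
      · obtain ⟨q, a, b⟩ := q2.exact (t2 _ _ _ (ev1 _) (k2 k hk)) (hT k hk)
        exact ⟨q, a, fun _ => b⟩
      · exact ⟨1, Q.one_mem, fun e => absurd e hk⟩
    choose q hq hq' using this
    refine ⟨_, q2, hq', fun K hK hx => ?_⟩
    have ev2 := q2.lin_ev (x := fun k => if k < 4 then
        BN.ev (fun k => [ω, σ].getD k 1) (BN.nth [] d.ws k) else 1) (l := L) fun k => by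
      split_ifs with hk
      · exact t2 _ _ _ (ev1 _) (k2 k hk)
      · rw [BN.nth_of_le _ _ _ (by omega)]; exact q2.lin_of_mem Q.one_mem
    have m : ∀ W, BN.ev (fun k => if k < 4 then
        BN.ev (fun k => [ω, σ].getD k 1) (BN.nth [] d.ws k) else 1) W ∈ K := BN.ev_mem fun k => by
      split_ifs with hk
      · exact (K.mul_mem_cancel_right (hK (hq k))).1 (hx k hk)
      · exact K.one_mem
    exact gen K hK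
      ((K.mul_mem_cancel_left (K.inv_mem (m _))).1 (hK (q2.lin_mem lx (t2 _ _ _ d1 k3) (ev2 _))))
      ((K.mul_mem_cancel_left (K.inv_mem (m _))).1 (hK (q2.lin_mem lx (t2 _ _ _ d2 k4) (ev2 _))))
  cases hty : d.ty
  · obtain ⟨x, hx⟩ := key tB' lB (by rw [hty]; rfl) rfl (by decide +kernel)
    exact ⟨ψ2, x, Or.inr hx⟩
  · obtain ⟨x, hx⟩ := key tA lA (by rw [hty]; rfl) rfl (by decide +kernel)
    exact ⟨ψ2, x, Or.inl hx⟩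

end Cfsg.Agent.He5
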