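import Cfsg.Agent.He5.QCls
import Cfsg.Agent.He5.QT

/-! Codes for a Sylow 2-subgroup of an extension of `2 ^ (1 + 6)` by `L₃(2)`. -/

set_option autoImplicit false

namespace Cfsg.Agent.He5

open Cfsg.Agent.Comp Cfsg.Agent.TT

variable {G : Type*} [Group G] {Q : Subgroup G} {z : G} {ψ x : ℕ → G} {T : List ℕ}

theorem QC.act_all (h : QC Q z ψ) {c : G} {A : ℕ} (hc : Act z ψ c A) {k : ℕ} (hk : k < 128) :
    c * ψ k * c⁻¹ = ψ (ap A k) := by
  have := (h.hm_conj c).eq_fq hk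
  simp only [h.z_eq, conj_eq_of_comm hc.1] at this
  rw [this, (h.mul.ap A k).2, h.z_eq]
  exact fq_congr hc.2 k

/-- standard generators, normalised -/
structure SD (Q : Subgroup G) (z : G) (ψ x : ℕ → G) (T : List ℕ) : Prop where
  qc : QC Q z ψ
  lx : LX Q z
  act : ∀ k, Act z ψ (x k) (BN.nth i7 T k)
  out : ∀ k, 4 ≤ k → x k = 1
  gen : ∀ K : Subgroup G, Q ≤ K → (∀ k, x k ∈ K) → ∀ g, g * z = z * g → g ∈ K
  card : Nat.card (Subgroup.centralizer {z}) = 21504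

theorem Std.sd (h : Std Q z ψ x T) (lx : LX Q z) (hT : ∀ k < 4, BN.nth 0 T k = BN.nth i7 T k)
    (hl : T.length = 4) (hc : Nat.card (Subgroup.centralizer {z}) = 21504) :
    SD Q z ψ (fun k => if k < 4 then x k else 1) T := by
  refine ⟨h.qc, lx, fun k => ?_, fun k hk => if_neg (by omega),
    fun K h1 h2 => h.gen K h1 fun k hk => by simpa [hk] using h2 k, hc⟩
  split_ifs with hk
  · exact hT k hk ▸ h.act k hk
  · have : ∀ i < 6, c7 i7 i = 2 ^ i := by decide +kernel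
    rw [BN.nth_of_le _ _ _ (by omega)]
    exact ⟨by simp, fun i hi => by simp [this i hi]⟩

/-- the action of a word on a code -/
noncomputable def wk (T W : List ℕ) (k : ℕ) : ℕ :=
  List.rec (motive := fun _ => ℕ) k (fun j _ ih => force ih (ap (BN.nth i7 T j))) W

/-- the words acting trivially -/
def trW : List (List ℕ) := [[0, 0], [1, 1], [2, 2], [3, 3], [0, 1, 0, 1, 0, 1, 0, 1], [2, 0, 2, 0, 2, 0],
  [3, 1, 3, 1, 3, 1], [2, 1, 2, 0, 1, 0, 1], [3, 0, 3, 0, 1, 0, 1], [2, 3, 2, 3, 2, 3]]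

noncomputable def trB (T : List ℕ) : Bool :=
  allL trW fun W => allLT 6 fun i => Nat.beq (wk T W (2 ^ i)) (2 ^ i)

theorem pw_pow {g : G} (h : g * g = 1) (a : Bool) (n : ℕ) : pw g a ^ n = pw g (a && n.testBit 0) := by
  induction n with
  | zero => simp [pw]
  | succ n ih =>
    rw [pow_succ, ih, pw_mul h]
    congr 1
    rcases Nat.mod_two_eq_zero_or_one n with e | e <;> cases a <;> simp [Nat.add_mod, e]

theorem sq_eq {m c f u v w : G} (h1 : m * m = u) (h2 : c * c = v) (h3 : m * (c * (m * f)) = w)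
    (u2 : u * u = 1) (w2 : w * w = 1) (a : Commute u c) (b : Commute v m) (d : Commute w f) :
    v * (f * f) = 1 := by
  have e : m * c * m = w * f⁻¹ := by rw [← h3]; group
  have : m * c * m * (m * c * m) = v :=
    calc m * c * m * (m * c * m) = m * (c * (m * m) * c) * m := by group
      _ = m * (m * m) * (v * m) := by rw [h1, ← a.eq, mul_assoc u, h2]; group
      _ = m * m * (m * m) * v := by rw [b.eq]; group
      _ = v := by rw [h1, u2, one_mul]
  rw [← this, e]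
  calc w * f⁻¹ * (w * f⁻¹) * (f * f) = w * (f⁻¹ * w * f) := by group
    _ = 1 := by rw [mul_assoc f⁻¹, d.eq]; simpa using w2

namespace SD

theorem ev_comm (h : SD Q z ψ x T) (W : List ℕ) : BN.ev x W * z = z * BN.ev x W :=
  Subgroup.mem_centralizer_singleton_iff.1
    (BN.ev_mem (fun k => Subgroup.mem_centralizer_singleton_iff.2 (h.act k).1) W)

theorem walk (h : SD Q z ψ x T) (W : List ℕ) {k : ℕ} (hk : k < 128) :
    wk T W k < 128 ∧ BN.ev x W * ψ k * (BN.ev x W)⁻¹ = ψ (wk T W k) := by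
  induction W with
  | nil => exact ⟨hk, by simp [wk]⟩
  | cons j W ih =>
    have e : wk T (j :: W) k = ap (BN.nth i7 T j) (wk T W k) := force_eq _ _
    rw [e, ← h.qc.act_all (h.act j) ih.1, ← ih.2, BN.ev_cons]
    exact ⟨ap_lt _ _, by group⟩

theorem cen (h : SD Q z ψ x T) (hT : trB T = true) {W : List ℕ} (hW : W ∈ trW) :
    ∃ e, BN.ev x W = pw z e := by
  have k := (allLT_iff _ _).1 ((allL_iff _ _).1 hT W hW)
  rcases h.lx.eq_of_comm (c := BN.ev x W) (fun u hu => by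
    obtain ⟨l, hl, rfl⟩ := h.qc.mem.1 hu
    have := (h.qc.hm_conj (BN.ev x W)).eq_fq hl
    simp only [h.qc.z_eq, conj_eq_of_comm (h.ev_comm W)] at this
    rw [fq_congr (g' := fun i => ψ (2 ^ i)) (fun i hi => by
      rw [(h.walk W (two_pow_lt hi)).2, (beq_iff _ _).1 (k i hi)]), ← h.qc.z_eq,
      ← h.qc.mul.eq_fq hl] at this
    exact (comm_of_conj_eq this).symm) with e | e
  exacts [⟨false, e⟩, ⟨true, e⟩]

theorem pw_comm (h : SD Q z ψ x T) (e : Bool) (W : List ℕ) : Commute (pw z e) (BN.ev x W) := by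
  simpa [pw] using He5.pw_comm (show Commute z _ from (h.ev_comm W).symm) e true

theorem eps (h : SD Q z ψ x T) (hT : trB T = true) : ∃ E, x 0 * x 0 = pw z E ∧ x 1 * x 1 = pw z E ∧
    (x 0 * x 1) ^ 4 = pw z E := by
  obtain ⟨e0, a0⟩ := h.cen hT (W := [0, 0]) (by decide)
  obtain ⟨e1, a1⟩ := h.cen hT (W := [1, 1]) (by decide)
  obtain ⟨e2, a2⟩ := h.cen hT (W := [2, 2]) (by decide)
  obtain ⟨e3, a3⟩ := h.cen hT (W := [3, 3]) (by decide)
  obtain ⟨E, a4⟩ := h.cen hT (W := [0, 1, 0, 1, 0, 1, 0, 1]) (by decide)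
  obtain ⟨e5, a5⟩ := h.cen hT (W := [2, 1, 2, 0, 1, 0, 1]) (by decide)
  obtain ⟨e6, a6⟩ := h.cen hT (W := [3, 0, 3, 0, 1, 0, 1]) (by decide)
  have p2 : ∀ e, pw z e * pw z e = 1 := fun e => by rw [pw_mul h.qc.zz]; simp [pw]
  have c : ∀ e k, Commute (pw z e) (x k) := fun e k => by simpa using h.pw_comm e [k]
  have f2 : BN.ev x [0, 1, 0, 1] * BN.ev x [0, 1, 0, 1] = pw z E := by rw [← BN.ev_append]; exact a4
  have b1 := sq_eq (f := BN.ev x [0, 1, 0, 1]) (by simpa using a2) (by simpa using a1)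
    (by simpa using a5) (p2 _) (p2 _) (c _ _) (c _ _) (h.pw_comm _ _)
  have b0 := sq_eq (f := BN.ev x [0, 1, 0, 1]) (by simpa using a3) (by simpa using a0)
    (by simpa using a6) (p2 _) (p2 _) (c _ _) (c _ _) (h.pw_comm _ _)
  rw [f2] at b0 b1
  refine ⟨E, ?_, ?_, ?_⟩
  · rw [← mul_right_cancel (b0.trans (p2 E).symm)]; simpa using a0
  · rw [← mul_right_cancel (b1.trans (p2 E).symm)]; simpa using a1
  · simpa [pow_succ, mul_assoc] using a4

end SD

/-- words for the dihedral group of order eight -/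
def dW (d : ℕ) : List ℕ := [[], [0, 1], [0, 1, 0, 1], [0, 1, 0, 1, 0, 1], [0],
  [0, 1, 0], [0, 1, 0, 1, 0], [0, 1, 0, 1, 0, 1, 0]].getD d []

theorem ev_dW (x : ℕ → G) {d : ℕ} (hd : d < 8) :
    BN.ev x (dW d) = (x 0 * x 1) ^ (d % 4) * pw (x 0) (d.testBit 2) := by
  interval_cases d <;> simp [dW, pw, pow_succ, mul_assoc, Nat.testBit]

def tt (d e : ℕ) : ℕ := d % 4 + (if d.testBit 2 then 7 * (e % 4) else e % 4) +
  if d.testBit 2 && e.testBit 2 then 4 else 0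

theorem dih {b c : G} {E : Bool} (zz : z * z = 1) (h0 : b * b = pw z E) (h1 : c * c = pw z E)
    (h4 : (b * c) ^ 4 = pw z E) (d e : ℕ) :
    (b * c) ^ (d % 4) * pw b (d.testBit 2) * ((b * c) ^ (e % 4) * pw b (e.testBit 2)) =
      pw z (E && (tt d e).testBit 2) * ((b * c) ^ (tt d e % 4) * pw b (d.testBit 2 ^^ e.testBit 2)) := by
  have p2 : pw z E * pw z E = 1 := by rw [pw_mul zz]; simp [pw]
  have s : SemiconjBy b (b * c) ((b * c) ^ 7) := by
    have e7 : (b * c) ^ 7 = (b * c)⁻¹ := eq_inv_of_mul_eq_one_left (by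
      rw [← pow_succ, show 7 + 1 = 4 + 4 from rfl, pow_add, h4, p2])
    rw [SemiconjBy, e7, ← mul_assoc, h0, ← h1]
    have : c * c * (c * c) = 1 := by rw [h1, p2]
    calc c * c * c = c * c * (c * c) * c⁻¹ := by group
      _ = _ := by rw [this]; group
  have t : ∀ t, (b * c) ^ t = pw z (E && t.testBit 2) * (b * c) ^ (t % 4) := fun t => by
    conv_lhs => rw [← Nat.div_add_mod t 4, pow_add, pow_mul, h4, pw_pow zz]
    rw [show t.testBit 2 = (t / 4).testBit 0 from Nat.testBit_add t 0 2]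
  rw [← mul_assoc (pw z _), ← t, tt]
  generalize d.testBit 2 = u
  generalize e.testBit 2 = v
  have s' := (s.pow_right (e % 4)).eq
  rw [← pow_mul] at s'
  cases u <;> cases v <;> simp [pw, pow_add, mul_assoc, s', h4.trans h0.symm]
  rw [← mul_assoc b, s', mul_assoc]

/-- product of codes -/
noncomputable def mt (a d x y : ℕ) : ℕ :=
  force x fun x => force y fun y => Nat.xor (force (dig (nat_lit 7) (nat_lit 127) a
    (Nat.lor (Nat.land x (nat_lit 896)) (Nat.land y (nat_lit 127)))) (mq (Nat.land x (nat_lit 127))))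
    (dig (nat_lit 10) (nat_lit 1023) d (Nat.add (Nat.mul (Nat.shiftRight x (nat_lit 7)) (nat_lit 8))
      (Nat.shiftRight y (nat_lit 7))))

/-- the element with a given code -/
noncomputable def ph (ψ x : ℕ → G) (u : ℕ) : G := ψ (u % 128) * BN.ev x (dW (u / 128))

noncomputable def aB (T : List ℕ) (a : ℕ) : Bool :=
  and' (allLT 8 fun d => allLT 128 fun k => Nat.beq (dig 7 127 a (Nat.add (Nat.mul d 128) k)) (wk T (dW d) k))
    (allLT 8 fun d => allLT 8 fun e => or' (Nat.beq d e) (allLT 128 fun q => anyLT 6 fun i =>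
      not' (Nat.beq (mq (wk T (dW d) (2 ^ i)) q) (mq q (wk T (dW e) (2 ^ i))))))

def dB (E : Bool) (D : ℕ) : Prop := ∀ d < 8, ∀ e < 8, dig 10 1023 D (d * 8 + e) =
  (if E && (tt d e).testBit 2 then 64 else 0) + 128 * (tt d e % 4 +
    if (d.testBit 2 ^^ e.testBit 2) then 4 else 0)

theorem SD.tc (h : SD Q z ψ x T) {E : Bool} (h0 : x 0 * x 0 = pw z E) (h1 : x 1 * x 1 = pw z E)
    (h4 : (x 0 * x 1) ^ 4 = pw z E) {a D : ℕ} (ha : aB T a = true) (hD : dB E D) :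
    TC z (ph ψ x) (mt a D) := by
  simp only [aB, and'_eq_true, allLT_iff, beq_iff, or'_eq_true, anyLT_iff, not'_eq_true] at ha
  have l1 : ∀ u, u % 128 < 128 := fun u => Nat.mod_lt _ (by decide)
  refine ⟨fun {u v} hu hv => ?_, fun {u v} hu hv e => ?_, ?_, ?_, h.qc.zz, fun {u} _ => ?_, h.card⟩
  · have hd : u / 128 < 8 := by omega
    have he : v / 128 < 8 := by omega
    have i1 : Nat.lor (Nat.land u 896) (Nat.land v 127) = Nat.add (Nat.mul (u / 128) 128) (v % 128) := by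
      have : ∀ u < 1024, Nat.land u 896 = 2 ^ 7 * (u / 128) := by decide +kernel
      rw [this u hu]
      change _ ||| v &&& (2 ^ 7 - 1) = u / 128 * 128 + v % 128
      rw [Nat.and_two_pow_sub_one_eq_mod, ← Nat.two_pow_add_eq_or_of_lt (l1 v)]
      omega
    have i2 : mt a D u v = mq (u % 128) (wk T (dW (u / 128)) (v % 128)) ^^^
        dig 10 1023 D (u / 128 * 8 + v / 128) := by
      rw [← ha.1 _ hd _ (l1 v), ← i1, mt]
      simp only [force_eq]
      change mq (u &&& (2 ^ 7 - 1)) _ ^^^ dig 10 1023 D (u >>> 7 * 8 + v >>> 7) = _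
      rw [Nat.and_two_pow_sub_one_eq_mod, Nat.shiftRight_eq_div_pow, Nat.shiftRight_eq_div_pow]
    obtain ⟨w1, w2⟩ := h.walk (dW (u / 128)) (l1 v)
    have k : ∀ p < 128, ∀ s : Bool, ∀ t < 8, (p ^^^ ((if s then 64 else 0) + 128 * t)) < 1024 ∧
        (p ^^^ ((if s then 64 else 0) + 128 * t)) % 128 = mq p (if s then 64 else 0) ∧
        (p ^^^ ((if s then 64 else 0) + 128 * t)) / 128 = t := by decide +kernel
    have m1 := mq_lt (l1 u) w1
    have k2 : ∀ t < 4, ∀ s : Bool, (t + if s then 4 else 0) < 8 ∧ (t + if s then 4 else 0) % 4 = t ∧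
        (t + if s then 4 else 0).testBit 2 = s := by decide
    obtain ⟨c1, c2, c3⟩ := k2 _ (Nat.mod_lt (tt (u / 128) (v / 128)) (by decide))
      ((u / 128).testBit 2 ^^ (v / 128).testBit 2)
    obtain ⟨b1, b2, b3⟩ := k _ m1 (E && (tt (u / 128) (v / 128)).testBit 2) _ c1
    rw [i2, hD _ hd _ he]
    refine ⟨b1, ?_⟩
    have pz : ∀ s : Bool, ψ (if s then 64 else 0) = pw z s := fun s => by
      cases s <;> simp [pw, h.qc.z_eq, h.qc.mul.zero]
    rw [ph, b2, b3, ev_dW _ c1, c2, c3, h.qc.mul _ m1 _ (by split_ifs <;> decide), pz, mul_assoc,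
      ← dih h.qc.zz h0 h1 h4, ← ev_dW _ hd, ← ev_dW _ he, h.qc.mul _ (l1 u) _ w1, ← w2, ph, ph]
    group
  · obtain ⟨q, hq, e2⟩ := h.qc.mem.1 (Q.mul_mem (Q.inv_mem (h.qc.mem.2 ⟨_, l1 u, rfl⟩))
      (h.qc.mem.2 ⟨_, l1 v, rfl⟩))
    have e3 : BN.ev x (dW (u / 128)) = ψ q * BN.ev x (dW (v / 128)) := by
      rw [e2, mul_assoc, eq_inv_mul_iff_mul_eq]; exact e
    rcases ha.2 (u / 128) (by omega) (v / 128) (by omega) with a1 | a1
    · rw [ph, ph, a1, mul_left_inj] at e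
      have := h.qc.inj (l1 u) (l1 v) e
      omega
    · obtain ⟨i, hi, a2⟩ := a1 q hq
      obtain ⟨w1, w2⟩ := h.walk (dW (u / 128)) (two_pow_lt hi)
      obtain ⟨w3, w4⟩ := h.walk (dW (v / 128)) (two_pow_lt hi)
      refine absurd (h.qc.inj (mq_lt w1 hq) (mq_lt hq w3) ?_) a2
      rw [h.qc.mul _ w1 _ hq, h.qc.mul _ hq _ w3, ← w2, ← w4, e3]
      group
  · simp [ph, dW, h.qc.z_eq]
  · simp [ph, dW, h.qc.mul.zero]
  · exact Commute.mul_left (h.qc.comm (l1 u)) (h.ev_comm _)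

theorem ph_lt {u : ℕ} (hu : u < 128) : ph ψ x u = ψ u := by
  simp [ph, dW, Nat.mod_eq_of_lt hu, Nat.div_eq_of_lt hu]

noncomputable def aA : ℕ := nat_lit 0xd7ab6ecdfbb4e8c78b2e4cf9b0e0f7ebefcfffbcf8e7cbaf4efdb8f0b76aedcbf7acd8a74aad4af5a8d0972a6cc9f3a4c8870a2c48f1a0c056a96ac5eb94a846892a44e990a076e9ebc7ef9cb866c9ab46ed98b03668e9c3e78c982648a942e58890162868c1e3848806082840e18080f3fbdfcfbebff8e3db9f4ebcbbf0c39b1e4cb8b3e0d3bb5ecdbab7e8a35a9d4ab4abd0b37addcbb6afd8933a5cc9b2a7c8831a1c48b0a3c072f9dbc7ae9fb862d99b46ac9bb042991a44a893a052b95ac5aa97a822589942a48b903278d9c3a68f98123858c1a2878802181840a08380cf8b0e4c79b2e0dfab4ecd7bb6e8efcb8f4e7dbaf0ffebcfcf7fbef8bf6acdcb77aed8af4a8d4a75aad09f2a4cc973a6c88f0a0c4871a2c04e890a446992a05ea94ac56b96a86ec98b466d9ab07ee9cbc76f9eb83e68c9c3678e982e488942658a901e2848c16386880e080840618280ebdbbf4e3cb9f0fbfbffcf3ebdf8dbbb7ecd3ab5e8cb9b3e4c38b1e0ab5abd4a34a9d0bb7afdcb36add89b3a7cc932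a5c88b1a3c4830a1c06ad9bb462c99b07af9fbc72e9db85ab97ac52a95a84a993a442891a02a58b9422489903a78f9c3268d981a3878c12285880a183840208180cb8b1e4c39b3e0dbab5ecd3bb7e8fbebdfcf3fbff8ebcb9f4e3dbbf0ab4a9d4a35abd0bb6addcb37afd89b2a5cc933a7c88b0a1c4831a3c04a891a442993a05aa95ac52b97a87ae9dbc72f9fb86ac99b462d9bb02a489942258b903a68d9c3278f981a2858c12387880a081840218380e7db8f4efcbaf0f7fbcfcffebef8c79b0e4cf8b2e0d7bb4ecdfab6e8b77acdcbf6aed8a75a8d4af4aad0973a4cc9f2a6c8871a0c48f0a2c066d98b46ec9ab076f9cbc7ee9eb846990a44e892a056b94ac5ea96a83678c9c3e68e9826588942e48a90163848c1e2868806180840e08280d3ab7ecdbbb5e8c38b3e4cb9b1e0e3cbbf4ebdb9f0f3ebffcfbfbdf8a34abd4ab5a9d0b36afdcbb7add8932a7cc9b3a5c8830a3c48b1a1c052a97ac5ab95a842893a44a991a062c9bb46ad99b072e9fbc7af9db82248b942a589903268f9c3a78d98122878c1a3858802083840a18180fffbefcf7ebcf8efdbaf4e7cb8f0dfbb6ecd7ab4e8cf9b2e4c78b0e0bf7aedcb76acd8af5aad4a74a8d09f3a6cc972a4c88f1a2c4870a0c07ef9ebc76e9cb86ed9ab466c98b05eb96ac56a94a84e992a446890a03e78e9c3668c982e58a9426488901e3868c16284880e182840608080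

noncomputable def aU : ℕ := nat_lit 0xffedc3cfde9cbd1c2a4cd1e2e44c5eaf46c5cab4edbd68c9dbf6cc1cc79d220c5992a1a558a91a75ca1066dfa7064dbaf1041a2c1061e2407eefc7c7cebcfd9d2848d9f2c40cdfad42cdda94ad3c6acdd3e6ec5c469f260449b2e1245aad1265ea50e7dda30e5d9ab18518281871c200f2f9dfc7bebfb86fc3ab2e6d18f64597027cc8526359af729d0bd56da84cb51215e915b474c5f3d66e1b9e206ca173248e031a1848a083c073fbdbcfae9ff8eec1af267d38b6c4950674d87223d8ad76951bf52d294eb11a05c9553576c1fbc64e5b1f2268a96304ce82181c40b0a3807ff7f3c71ebcbb112a48b1f3670ca0488d3ae54b54ce95364c0890e3397ae9f3766d18d6a5568d8b96ef67c793069dbab788182c78604140fef5f7cf0e9cfb90284cb9e3474c214a8932f56b144f97324418b0a3b878edfb664d5857a752859bb6afe6c5970e8d9af7091a287070610073e1efc77e9ffee2c3ab4e6cbbb6b66af9eb262e9c2748bd62340ad4dab34a8debb5aa4b910e04f991e29e3a58a9a324880f181c20b100c0f2e3ebcf6ebfbe63c1af467c9bf63768fde3360edca64ab96a242a945bb14e85fb95eaca930a0ce9b1a21f385ca1b304c88e1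a1828a12080f2f7c3c7de9ffb903248d1f2c74ac49b1a74b85260275c956a842a91d0b34ad5fad76ab276c1c3d68fdb67dd976e8c3ab1841a1870b0424073f5c7cfcebfbb11304cd9e2e70a45991e7ca87220a65e9162940ad151b14eddeaf72a3374c5cbc6af9be6df93669c1af105181c78a062007ee3dfcfbe9cbe62dbaf2e7d1bb0205ea53a554b11bd64d1d386ec5fc19d22344973615ca756dd9ad42f9f2058c1a2a4ce831828206123c0ffe1dbc7aebcfee3d9ab266d3bf0a15ca132456b513c66d5db96cc1f409f263c595321dda552d58af46f1e225cc9b2848e021a2c2871038072edf3cf1ebffd9d324cb1e3440a3664e1eb562edf58b95a9dbbf568224cb14a14abd5cd930e34e9502266c5a36e5c3af708181818b1e140f3eff7c70e9fbd1c3048b9f3644ab766e5e3460e9fd9bb5e95abd528a34eb542048b954c910a3cf97062e7c7a7664c1ab7891a1c10a1c100fffbefcf7ebcf8efdbaf4e7cb8f0dfbb6ecd7ab4e8cf9b2e4c78b0e0bf7aedcb76acd8af5aad4a74a8d09f3a6cc972a4c88f1a2c4870a0c07ef9ebc76e9cb86ed9ab466c98b05eb96ac56a94a84e992a446890a03e78e9c3668c982e58a9426488901e3868c16284880e182840608080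

noncomputable def d0 : ℕ := nat_lit 0x804018080280c03806000020100e0200a03004018000080c0380802802010060000a0300e0200c0280803804008000180a0200e0300200006010080380c02800018040080e0300a02006010020000

noncomputable def d1 : ℕ := nat_lit 0x100c0501c080280c03806004030140f0200a030040180100c0d03c0802802010060040b0340f0200d02c090380500c010180b0240e0300300406010090380c02801018040080e0300a02006010020000

theorem aA_chk : aB tA aA = true := by decide +kernel
theorem aU_chk : aB tB' aU = true := by decide +kernel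
theorem d0_chk : dB false d0 := by unfold dB; decide +kernel
theorem d1_chk : dB true d1 := by unfold dB; decide +kernel
theorem trA : trB tA = true := by decide +kernel
theorem trU : trB tB' = true := by decide +kernel

end Cfsg.Agent.He5
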